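import Cfsg.Agent.TensorSquareThree.Central
import Cfsg.Agent.AschbacherOrth.NotLeWreath
import Cfsg.Agent.MaxSub.CentralProduct
import Cfsg.Agent.AschbacherQuad.Basic

/-!
# The stabiliser of a tensor square of a three-dimensional symmetric form is maximal in `Ω₉(q)`, `q ≥ 5` odd

(clause (7) of the list of geometric maximal subgroups of `Ω₉(q)`)
-/

set_option autoImplicit false
set_option linter.unusedSectionVars false

namespace CfsgLib.TensorSquareThree

open Matrix Module Cfsg.Geo CfsgLib.Spinor CfsgLib.OrthMax CfsgLib.TensorOrth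
open CfsgLib.TensorMax (Idx ten)
open CfsgLib.TensorSlice (ASet aset_of_structure)
open scoped Kronecker

variable {F : Type*} [Field F] [Fintype F]

namespace Sq

variable {Q : QuadraticForm F (Idx 3 3 → F)} {B₁ B₂ : LinearMap.BilinForm F (Fin 3 → F)}

/-- The exchange of two similar factors is an isometry. -/
theorem exists_sq (hs : ASet Q B₁ B₂) (h5 : 5 ≤ Fintype.card F) {κ : F} (hκ : ∀ x y, B₁ x y = κ * B₂ x y) :
    ∃ J z : Isom Q, Sq Q B₁ B₂ J z := by
  obtain ⟨z, hz, -⟩ := hs.neg_R_omega ⟨1, rfl⟩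
  let e : (Idx 3 3 → F) ≃ₗ[F] (Idx 3 3 → F) := CfsgLib.TensorSlice.swL
  let G : GL (Idx 3 3) F := Matrix.GeneralLinearGroup.toLin.symm
    (LinearMap.GeneralLinearGroup.ofLinearEquiv e)
  have hG : ∀ x y, (G : Matrix (Idx 3 3) (Idx 3 3) F) *ᵥ ten x y = ten y x := fun x y => by
    show LinearMap.toMatrix' (e : (Idx 3 3 → F) →ₗ[F] (Idx 3 3 → F)) *ᵥ ten x y = _
    rw [LinearMap.toMatrix'_mulVec]
    exact CfsgLib.TensorSlice.swL_ten y x
  have hpol := hs.tset.polar_eq_of_ten (g := (G : Matrix (Idx 3 3) (Idx 3 3) F)) fun x y x' y' => by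
    rw [hG, hG, hs.tset.polar, hκ, hκ]; ring
  have hQ : ∀ v, Q ((G : Matrix (Idx 3 3) (Idx 3 3) F) *ᵥ v) = Q v := fun v => by
    refine mul_left_cancel₀ hs.two ?_
    rw [← polar_self', ← polar_self', hpol]
  exact ⟨⟨G, fun v _ => hQ v⟩, z, hs, hG, hz, h5⟩

variable {J z : Isom Q}

/-- Proper overgroups of the stabiliser in `Ω` do not exist. -/
theorem omega_le (hS : Sq Q B₁ B₂ J z) {M : Subgroup (Isom Q)}
    (hmem : ∀ g ∈ Cfsg.Omega F ⇑Q, g ∈ hS.Nr → g ∈ M) {g : Isom Q} (hg : g ∈ M)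
    (hgΩ : g ∈ Cfsg.Omega F ⇑Q) (hgN : g ∉ hS.Nr) : Cfsg.Omega F ⇑Q ≤ M := by
  by_contra hne
  have hM : Over hS (M ⊓ Cfsg.Omega F ⇑Q) :=
    ⟨fun x hx hxN => ⟨hmem x hx hxN, hx⟩, inf_le_right, fun h => hne fun x hx => (h hx).1⟩
  exact hgN (hM.mem_nr ⟨hg, hgΩ⟩)

end Sq

/-- **The tensor square stabiliser in dimension nine is maximal.** -/
theorem isMaximalIn_square_three {ι : Type} [Fintype ι] [DecidableEq ι] (hodd : Odd (Fintype.card F))
    (h5 : 5 ≤ Fintype.card F) (Q : (ι → F) → F) (hQ : IsNondegenerateQuadraticForm Q)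
    (e : ι ≃ (Fin 2 → Fin 3)) (P : GL ι F) (f₁ : (Fin 3 → F) → (Fin 3 → F) → F) (hf : IsSymmetricForm f₁)
    (hT : IsTensorPowerFormStructure id (QuadraticMap.polar Q) f₁ e P) :
    IsMaximalIn (omegaGL Q) (tensorWreathSubgroup 3 2 e P ⊓ omegaGL Q) := by
  classical
  have h2 := CfsgLib.TensorSlice.two_ne_of_odd hodd
  set e' : ι ≃ Fin 3 × Fin 3 := e.trans (finTwoArrowEquiv _) with he'
  set Q' := CfsgLib.AschbacherQuad.quadForm hQ with hQ'
  have hT' : IsTensorFormStructure id (QuadraticMap.polar ⇑Q') f₁ f₁ e' P := by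
    obtain ⟨c, hc, h⟩ := hT
    refine ⟨c, hc, fun x y => ?_⟩
    have hx : ∀ w : Fin 3 × Fin 3 → F, (fun a => w (finTwoArrowEquiv _ a)) ∘ e = w ∘ e' := fun w => rfl
    have := h (fun a => x (finTwoArrowEquiv _ a)) (fun a => y (finTwoArrowEquiv _ a))
    rw [hx, hx] at this
    refine this.trans (congrArg (c * ·) ?_)
    rw [formOfGram, ← (finTwoArrowEquiv (Fin 3)).symm.sum_comp]
    refine Finset.sum_congr rfl fun p _ => ?_
    rw [← (finTwoArrowEquiv (Fin 3)).symm.sum_comp]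
    refine Finset.sum_congr rfl fun q _ => ?_
    simp [Fin.prod_univ_two, kroneckerMap_apply, finTwoArrowEquiv]
  obtain ⟨c, -, hs⟩ := aset_of_structure (Q := Q') h2 (by norm_num) (by norm_num)
    (CfsgLib.AschbacherQuad.quadForm_nondegenerate hQ) e' P hf hf hT'
  obtain ⟨J, z, hS⟩ := Sq.exists_sq hs h5 (κ := c) fun x y => by
    simp only [bilinOf_apply, one_mul]
  set Φ := coordIso e' P with hΦ
  set T := tensorWreathSubgroup 3 2 e P
  set S := T.comap Φ.toMonoidHom with hSdef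
  have hpt : ∀ xs : Fin 2 → Fin 3 → F, TensorNonmax.ptmul e P xs
      = AschbacherForms.coords e' P (ten (xs 0) (xs 1)) := fun xs => by
    rw [TensorNonmax.ptmul, TensorNonmax.cvec_apply, AschbacherForms.coords_apply]
    congr 1
    funext i
    simp [ten, he', Fin.prod_univ_two, finTwoArrowEquiv]
  -- the stabiliser of the pair lies in the wreath group
  have hsub : ∀ g ∈ hS.Nr, (g : GL (Idx 3 3) F) ∈ S := by
    have hkr : ∀ g ∈ Kr (coordQuad Q' e' P), (g : GL (Idx 3 3) F) ∈ S := by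
      intro g hg
      obtain ⟨A, B, hg⟩ := hg
      refine MaxSub.mem_tensorWreathSubgroup_of (σ := 1) (as := ![A, B]) fun xs => ?_
      rw [hpt, hpt]
      refine (coordIso_mulVec e' P _ _).trans (congrArg _ ?_)
      rw [show ((g : GL (Idx 3 3) F) : Matrix (Idx 3 3) (Idx 3 3) F) = (A : Matrix (Fin 3) (Fin 3) F) ⊗ₖ
        (B : Matrix (Fin 3) (Fin 3) F) from hg, CfsgLib.TensorMax.kron_mulVec_ten]
      simp
    have hJ : (J : GL (Idx 3 3) F) ∈ S := by
      refine MaxSub.mem_tensorWreathSubgroup_of (σ := Equiv.swap 0 1) (as := 1) fun xs => ?_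
      rw [hpt, hpt]
      refine (coordIso_mulVec e' P _ _).trans (congrArg _ ?_)
      rw [show ((J : GL (Idx 3 3) F) : Matrix (Idx 3 3) (Idx 3 3) F) *ᵥ ten (xs 0) (xs 1) = ten (xs 1) (xs 0) from
        hS.flip _ _]
      simp
    rintro g (hg | hg)
    · exact hkr g hg
    · have := S.mul_mem hJ (hkr _ hg)
      rwa [← Subgroup.coe_mul, ← mul_assoc, hS.J_sq, one_mul] at this
  have hO : (omegaGL ⇑(coordQuad Q' e' P)).map Φ.toMonoidHom = omegaGL ⇑Q' := by
    rw [omegaGL_eq, omegaGL_eq, Subgroup.map_commutator, map_isometryGroup]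
  have hmax : IsMaximalIn (omegaGL ⇑(coordQuad Q' e' P)) (S ⊓ omegaGL ⇑(coordQuad Q' e' P)) := by
    refine CfsgLib.OrthMax.isMaximalIn_omega _ ?_ fun M hM g hg hgΩ hgS => ?_
    · by_contra! hall
      refine CfsgLib.AschbacherOrth.not_le_wreath_square hQ ?_ le_rfl ?_ e P fun x hx => ?_
      · rw [Fintype.card_congr e, Fintype.card_fun, Fintype.card_fin, Fintype.card_fin]; norm_num
      · rw [Fintype.card_congr e, Fintype.card_fun, Fintype.card_fin, Fintype.card_fin]; norm_num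
      · have hx' : x ∈ omegaGL ⇑Q' := hx
        rw [← hO] at hx'
        obtain ⟨_, ⟨y, hy, rfl⟩, rfl⟩ := hx'
        exact hall y hy
    · exact hS.omega_le (fun x hx hxN => hM x hx (hsub x hxN)) hg hgΩ fun h => hgS (hsub g h)
  have h' := CfsgLib.TensorMax.isMaximalIn_map Φ hmax
  rwa [Subgroup.map_inf _ _ _ Φ.injective, hO,
    Subgroup.map_comap_eq_self_of_surjective Φ.surjective] at h'

end CfsgLib.TensorSquareThree
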