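import Cfsg.Agent.TensorOrthSlice.Main

/-!
# The tensor square of a three-dimensional orthogonal space

The flip `J` of the two factors, the involutions `P f = -R f`, `Λ e = -L e` and their products.
-/

set_option autoImplicit false
set_option linter.unusedSectionVars false

namespace CfsgLib.TensorSquareThree

open Matrix Module CfsgLib.Spinor CfsgLib.OrthMax CfsgLib.TensorOrth
open CfsgLib.TensorMax (Idx ten krG ten_add_left ten_add_right ten_smul_left ten_smul_right ten_eq_zero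
  ten_inj_left ten_inj_right kron_mulVec_ten)
open CfsgLib.TensorSlice (ASet IsOrth fixP Pure scGL scGL_mul_mulVec exists_orth_basis ten_neg_left ten_neg_right
  ten_sub_left ten_sub_right ten_zero_right)
open CfsgLib.TensorUnitary (ten_induction mat_ext_ten)
open scoped Kronecker

variable {F : Type*} [Field F] [Fintype F] {Q : QuadraticForm F (Idx 3 3 → F)}
  {B₁ B₂ : LinearMap.BilinForm F (Fin 3 → F)} {J z : Isom Q}

/-- The setting: the exchange of the factors is an isometry. -/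
structure Sq (Q : QuadraticForm F (Idx 3 3 → F)) (B₁ B₂ : LinearMap.BilinForm F (Fin 3 → F))
    (J z : Isom Q) : Prop where
  aset : ASet Q B₁ B₂
  flip : ∀ x y, mat Q J *ᵥ ten x y = ten y x
  neg : ∀ v, mat Q z *ᵥ v = -v
  five : 5 ≤ Fintype.card F

/-- The trace. -/
def tr (g : Isom Q) : F := Matrix.trace (mat Q g)

theorem tr_conj (g x : Isom Q) : tr (g * x * g⁻¹) = tr x := by
  unfold tr
  rw [mat_mul, Matrix.trace_mul_comm, ← mat_mul, ← mul_assoc, inv_mul_cancel, one_mul]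

theorem omega_conj {g : Isom Q} (hg : g ∈ Cfsg.Omega F ⇑Q) (h : Isom Q) :
    h * g * h⁻¹ ∈ Cfsg.Omega F ⇑Q := by
  have : (Cfsg.Omega F ⇑Q).Normal := by unfold Cfsg.Omega; infer_instance
  exact this.conj_mem g hg h

/-- The determinant is one on `Ω`. -/
theorem det_omega {g : Isom Q} (hg : g ∈ Cfsg.Omega F ⇑Q) : (mat Q g).det = 1 := by
  let φ : Isom Q →* Fˣ := (Matrix.GeneralLinearGroup.det).comp (Cfsg.isometryGroup F ⇑Q).subtype
  have h : Cfsg.Omega F ⇑Q ≤ φ.ker := by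
    unfold Cfsg.Omega
    exact Abelianization.commutator_subset_ker φ
  have h1 : φ g = 1 := h hg
  have h2 : ((Matrix.GeneralLinearGroup.det (g : GL (Idx 3 3) F) : Fˣ) : F) = 1 := by
    rw [show Matrix.GeneralLinearGroup.det (g : GL (Idx 3 3) F) = φ g from rfl, h1, Units.val_one]
  rwa [Matrix.GeneralLinearGroup.val_det_apply] at h2

namespace Sq

variable (hS : Sq Q B₁ B₂ J z)
include hS

theorem prop : ∃ κ : F, κ ≠ 0 ∧ ∀ x y, B₁ x y = κ * B₂ x y := by
  obtain ⟨y₀, y₁, hy⟩ := hS.aset.exists_pair₁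
  have h : ∀ x x', B₁ x x' * B₂ y₀ y₁ = B₂ x x' := fun x x' => by
    have h1 := polar_mulVec Q J (ten x y₀) (ten x' y₁)
    rw [hS.flip, hS.flip, hS.aset.tset.polar, hS.aset.tset.polar, hy, one_mul] at h1
    exact h1.symm
  have hne : B₂ y₀ y₁ ≠ 0 := fun h0 => by
    have e : ∀ x x', B₂ x x' = 0 := fun x x' => by rw [← h, h0, mul_zero]
    obtain ⟨w, hw⟩ := hS.aset.tset.f₂.exists_one (show (Pi.single (0 : Fin 3) (1 : F) : Fin 3 → F) ≠ 0 by simp)
    rw [e] at hw
    exact zero_ne_one hw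
  exact ⟨(B₂ y₀ y₁)⁻¹, inv_ne_zero hne, fun x y => by rw [← h x y]; field_simp⟩

theorem isoG_eq : isoG B₁ = isoG B₂ := by
  obtain ⟨κ, hκ, h⟩ := hS.prop
  ext T
  constructor
  · intro hT x y
    have := hT x y
    rw [h, h] at this
    exact mul_left_cancel₀ hκ this
  · intro hT x y
    rw [h, h, hT x y]

theorem zero_iff (x y : Fin 3 → F) : B₁ x y = 0 ↔ B₂ x y = 0 := by
  obtain ⟨κ, hκ, h⟩ := hS.prop
  rw [h, mul_eq_zero, or_iff_right hκ]

theorem ext {g h : Isom Q} (e : ∀ x y, mat Q g *ᵥ ten x y = mat Q h *ᵥ ten x y) : g = h :=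
  hS.aset.ext_ten e

theorem mul_ten (g h : Isom Q) (v : Idx 3 3 → F) : mat Q (g * h) *ᵥ v = mat Q g *ᵥ (mat Q h *ᵥ v) := by
  rw [mat_mul, mulVec_mulVec]

theorem J_sq : J * J = 1 :=
  hS.ext fun x y => by rw [hS.mul_ten, hS.flip, hS.flip, mat_one, one_mulVec]

theorem J_inv : J⁻¹ = J := inv_eq_of_mul_eq_one_right hS.J_sq

theorem z_comm (g : Isom Q) : g * z = z * g :=
  hS.ext fun x y => by rw [hS.mul_ten, hS.mul_ten, hS.neg, hS.neg, mulVec_neg]

theorem z_sq : z * z = 1 :=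
  hS.ext fun x y => by rw [hS.mul_ten, hS.neg, hS.neg, neg_neg, mat_one, one_mulVec]

theorem z_mem : z ∈ Kr Q :=
  hS.aset.tset.mem_Kr_of_ten hS.aset.apos hS.aset.bpos (-LinearMap.id) LinearMap.id fun x y => by
    rw [hS.neg, ← ten_neg_left]; rfl

theorem flip_conj_mem {g : Isom Q} (hg : g ∈ Kr Q) : J * g * J ∈ Kr Q := by
  obtain ⟨S, T, hST⟩ := hg
  refine hS.aset.tset.mem_Kr_of_ten hS.aset.apos hS.aset.bpos (Matrix.mulVecLin (T : Matrix (Fin 3) (Fin 3) F))
    (Matrix.mulVecLin (S : Matrix (Fin 3) (Fin 3) F)) fun x y => ?_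
  rw [hS.mul_ten, hS.mul_ten, hS.flip,
    show mat Q g = (S : Matrix (Fin 3) (Fin 3) F) ⊗ₖ (T : Matrix (Fin 3) (Fin 3) F) from hST, kron_mulVec_ten,
    hS.flip]
  rfl

/-- The stabiliser of the unordered pair of factors. -/
def Nr : Subgroup (Isom Q) where
  carrier := {g | g ∈ Kr Q ∨ J * g ∈ Kr Q}
  one_mem' := Or.inl (Kr Q).one_mem
  mul_mem' {g h} hg hh := by
    rcases hg with hg | hg <;> rcases hh with hh | hh
    · exact Or.inl ((Kr Q).mul_mem hg hh)
    · refine Or.inr ?_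
      have := (Kr Q).mul_mem (hS.flip_conj_mem hg) hh
      rwa [show J * g * J * (J * h) = J * g * (J * J) * h by group, hS.J_sq, mul_one, mul_assoc] at this
    · exact Or.inr (by rw [← mul_assoc]; exact (Kr Q).mul_mem hg hh)
    · refine Or.inl ?_
      have := (Kr Q).mul_mem (hS.flip_conj_mem hg) hh
      rwa [show J * (J * g) * J * (J * h) = (J * J) * g * (J * J) * h by group, hS.J_sq, one_mul,
        mul_one] at this
  inv_mem' {g} hg := by
    rcases hg with hg | hg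
    · exact Or.inl ((Kr Q).inv_mem hg)
    · refine Or.inr ?_
      have := hS.flip_conj_mem ((Kr Q).inv_mem hg)
      rwa [_root_.mul_inv_rev, hS.J_inv, mul_assoc, mul_assoc, hS.J_sq, mul_one] at this

theorem kr_le_nr : Kr Q ≤ hS.Nr := fun _ h => Or.inl h

theorem J_mem : J ∈ hS.Nr := Or.inr (by rw [hS.J_sq]; exact (Kr Q).one_mem)

/-- The action on the second factor. -/
noncomputable def kR : ↥(isoG B₂) →* Isom Q := hS.aset.kR

/-- The action on the first factor. -/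
noncomputable def kL : ↥(isoG B₂) →* Isom Q := (MulAut.conj J).toMonoidHom.comp hS.aset.kR

theorem kR_ten (T : isoG B₂) (x y : Fin 3 → F) :
    mat Q (hS.kR T) *ᵥ ten x y = ten x ((T.1 : Matrix (Fin 3) (Fin 3) F) *ᵥ y) := hS.aset.kR_ten T x y

theorem kL_ten (T : isoG B₂) (x y : Fin 3 → F) :
    mat Q (hS.kL T) *ᵥ ten x y = ten ((T.1 : Matrix (Fin 3) (Fin 3) F) *ᵥ x) y := by
  show mat Q (J * hS.aset.kR T * J⁻¹) *ᵥ ten x y = _
  rw [hS.J_inv, hS.mul_ten, hS.mul_ten, hS.flip, hS.aset.kR_ten, hS.flip]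

theorem kR_mem (T : isoG B₂) : hS.kR T ∈ Kr Q := hS.aset.kR_mem T

theorem kL_mem (T : isoG B₂) : hS.kL T ∈ Kr Q := by
  show J * hS.aset.kR T * J⁻¹ ∈ Kr Q
  rw [hS.J_inv]; exact hS.flip_conj_mem (hS.kR_mem T)

theorem LR_comm (S T : isoG B₂) : hS.kL S * hS.kR T = hS.kR T * hS.kL S :=
  hS.ext fun x y => by rw [hS.mul_ten, hS.mul_ten, hS.kR_ten, hS.kL_ten, hS.kL_ten, hS.kR_ten]

theorem kL_inj : Function.Injective hS.kL :=
  (MulAut.conj J).injective.comp hS.aset.kR_inj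

/-- The elements of `Kr` are pairs of isometries. -/
theorem factors {g : Isom Q} (hg : g ∈ Kr Q) : ∃ S T : isoG B₂, g = hS.kL S * hS.kR T := by
  obtain ⟨S, hSi, T, h⟩ := hS.aset.kr_cases ⟨1, rfl⟩ hg
  rw [hS.isoG_eq] at hSi
  exact ⟨⟨S, hSi⟩, T, hS.ext fun x y => by rw [h, hS.mul_ten, hS.kR_ten, hS.kL_ten]⟩

/-- The right reflection. -/
noncomputable def R (e : Fin 3 → F) : Isom Q := hS.kR (hS.aset.rR e)

/-- The left reflection. -/
noncomputable def L (e : Fin 3 → F) : Isom Q := hS.kL (hS.aset.rR e)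

/-- Minus the right reflection. -/
noncomputable def P (e : Fin 3 → F) : Isom Q := z * hS.R e

/-- Minus the left reflection. -/
noncomputable def Lam (e : Fin 3 → F) : Isom Q := z * hS.L e

theorem R_sq (e : Fin 3 → F) : hS.R e * hS.R e = 1 := hS.aset.R_sq e

theorem L_sq (e : Fin 3 → F) : hS.L e * hS.L e = 1 := by rw [L, ← map_mul, hS.aset.rR_sq, map_one]

theorem L_eq (e : Fin 3 → F) : hS.L e = J * hS.R e * J := by
  show J * hS.aset.kR _ * J⁻¹ = _
  rw [hS.J_inv]; rfl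

theorem J_z : J * z * J = z := by rw [hS.z_comm J, mul_assoc, hS.J_sq, mul_one]

theorem Lam_eq (e : Fin 3 → F) : hS.Lam e = J * hS.P e * J := by
  rw [Lam, P, L_eq, ← mul_assoc J z, hS.z_comm J]
  group

theorem P_mem (e : Fin 3 → F) : hS.P e ∈ Kr Q := (Kr Q).mul_mem hS.z_mem (hS.kR_mem _)

theorem Lam_mem (e : Fin 3 → F) : hS.Lam e ∈ Kr Q := (Kr Q).mul_mem hS.z_mem (hS.kL_mem _)

theorem pair_mem (e f : Fin 3 → F) : hS.L e * hS.R f ∈ Kr Q := (Kr Q).mul_mem (hS.kL_mem _) (hS.kR_mem _)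

theorem P_sq (e : Fin 3 → F) : hS.P e * hS.P e = 1 := by
  rw [P, show z * hS.R e * (z * hS.R e) = z * (hS.R e * z) * hS.R e by group, hS.z_comm,
    show z * (z * hS.R e) * hS.R e = (z * z) * (hS.R e * hS.R e) by group, hS.z_sq, hS.R_sq, mul_one]

theorem Lam_mul_P (e f : Fin 3 → F) : hS.Lam e * hS.P f = hS.L e * hS.R f := by
  rw [P, Lam, show z * hS.L e * (z * hS.R f) = z * (hS.L e * z) * hS.R f by group, hS.z_comm,
    ← mul_assoc z z, hS.z_sq, one_mul]

theorem pair_sq (e f : Fin 3 → F) : hS.L e * hS.R f * (hS.L e * hS.R f) = 1 := by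
  rw [show hS.L e * hS.R f * (hS.L e * hS.R f) = hS.L e * (hS.R f * hS.L e) * hS.R f by group,
    show hS.R f * hS.L e = hS.L e * hS.R f from (hS.LR_comm _ _).symm,
    show hS.L e * (hS.L e * hS.R f) * hS.R f = hS.L e * hS.L e * (hS.R f * hS.R f) by group, hS.L_sq,
    hS.R_sq, mul_one]

theorem R_ten (e x y : Fin 3 → F) :
    mat Q (hS.R e) *ᵥ ten x y = ten x (((hS.aset.rR e).1 : Matrix (Fin 3) (Fin 3) F) *ᵥ y) := hS.kR_ten _ x y

theorem L_ten (e x y : Fin 3 → F) :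
    mat Q (hS.L e) *ᵥ ten x y = ten (((hS.aset.rR e).1 : Matrix (Fin 3) (Fin 3) F) *ᵥ x) y := hS.kL_ten _ x y

/-! ### Traces -/

theorem tr_z_mul (g : Isom Q) : tr (z * g) = -tr g := by
  have e : mat Q (z * g) = -mat Q g := Matrix.ext_iff_mulVec.2 fun v => by
    rw [hS.mul_ten, hS.neg, neg_mulVec]
  unfold tr
  rw [e, Matrix.trace_neg]

theorem tr_pair (S T : isoG B₂) : tr (hS.kL S * hS.kR T)
    = Matrix.trace (S.1 : Matrix (Fin 3) (Fin 3) F) * Matrix.trace (T.1 : Matrix (Fin 3) (Fin 3) F) := by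
  have e : mat Q (hS.kL S * hS.kR T)
      = (S.1 : Matrix (Fin 3) (Fin 3) F) ⊗ₖ (T.1 : Matrix (Fin 3) (Fin 3) F) :=
    mat_ext_ten fun x y => by rw [hS.mul_ten, hS.kR_ten, hS.kL_ten, kron_mulVec_ten]
  unfold tr
  rw [e, Matrix.trace_kronecker]

theorem trace_rR {e : Fin 3 → F} (he : B₂ e e ≠ 0) :
    Matrix.trace ((hS.aset.rR e).1 : Matrix (Fin 3) (Fin 3) F) = 1 := by
  set A := ((hS.aset.rR e).1 : Matrix (Fin 3) (Fin 3) F) with hA
  have hij : ∀ i, A i i = 1 - 2 / B₂ e e * (e i * B₂ (Pi.single i 1) e) := fun i => by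
    have h := congrFun (hS.aset.rR_apply he (Pi.single i 1)) i
    rw [← hA, Matrix.mulVec_single_one] at h
    simp only [Matrix.col_apply, Pi.sub_apply, Pi.single_eq_same, Pi.smul_apply, smul_eq_mul] at h
    rw [h]
    ring
  have he' : ∑ i, e i * B₂ (Pi.single i 1) e = B₂ e e := by
    conv_rhs => arg 1; arg 2; rw [pi_eq_sum_univ' e]
    rw [map_sum, LinearMap.sum_apply]
    simp
  simp only [Matrix.trace, Matrix.diag, hij]
  rw [Finset.sum_sub_distrib, ← Finset.mul_sum, he', div_mul_cancel₀ _ he]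
  simp
  norm_num

theorem tr_R {e : Fin 3 → F} (he : B₂ e e ≠ 0) : tr (hS.R e) = 3 := by
  have h := hS.tr_pair 1 (hS.aset.rR e)
  rw [map_one, one_mul, hS.trace_rR he] at h
  simpa [R] using h

theorem tr_L {e : Fin 3 → F} (he : B₂ e e ≠ 0) : tr (hS.L e) = 3 := by
  have h := hS.tr_pair (hS.aset.rR e) 1
  rw [map_one, mul_one, hS.trace_rR he] at h
  simpa [L] using h

theorem tr_P {e : Fin 3 → F} (he : B₂ e e ≠ 0) : tr (hS.P e) = -3 := by rw [P, hS.tr_z_mul, hS.tr_R he]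

theorem tr_Lam {e : Fin 3 → F} (he : B₂ e e ≠ 0) : tr (hS.Lam e) = -3 := by rw [Lam, hS.tr_z_mul, hS.tr_L he]

theorem tr_LR {e f : Fin 3 → F} (he : B₂ e e ≠ 0) (hf : B₂ f f ≠ 0) : tr (hS.L e * hS.R f) = 1 := by
  rw [L, R, hS.tr_pair, hS.trace_rR he, hS.trace_rR hf, one_mul]

theorem four_ne : (4 : F) ≠ 0 := by
  have : (4 : F) = 2 * 2 := by norm_num
  rw [this]; exact mul_ne_zero hS.aset.two hS.aset.two

theorem trace_ne : (-3 : F) ≠ 1 := fun h => hS.four_ne (by linear_combination -h)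

/-- The trace of an element exchanging the factors. -/
theorem tr_flip (A B : isoG B₂) : tr (J * (hS.kL A * hS.kR B))
    = Matrix.trace ((B.1 : Matrix (Fin 3) (Fin 3) F) * (A.1 : Matrix (Fin 3) (Fin 3) F)) := by
  set g := J * (hS.kL A * hS.kR B)
  have hg : ∀ x y, mat Q g *ᵥ ten x y
      = ten ((B.1 : Matrix (Fin 3) (Fin 3) F) *ᵥ y) ((A.1 : Matrix (Fin 3) (Fin 3) F) *ᵥ x) := fun x y => by
    rw [hS.mul_ten, hS.mul_ten, hS.kR_ten, hS.kL_ten, hS.flip]
  have hij : ∀ i j, mat Q g (i, j) (i, j)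
      = (B.1 : Matrix (Fin 3) (Fin 3) F) i j * (A.1 : Matrix (Fin 3) (Fin 3) F) j i := fun i j => by
    have h := congrFun (hg (Pi.single i 1) (Pi.single j 1)) (i, j)
    rw [show ten (Pi.single i (1 : F)) (Pi.single j 1) = Pi.single (i, j) 1 from
      funext fun ⟨k, l⟩ => by simp [ten, Pi.single_apply, Prod.ext_iff, ← ite_and, and_comm]] at h
    simpa [Matrix.mulVec_single_one, ten] using h
  unfold tr
  simp only [Matrix.trace, Matrix.diag, Fintype.sum_prod_type, hij, Matrix.mul_apply]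

/-! ### Parities -/

theorem det_z : (mat Q z).det = -1 := by
  have e : mat Q z = -1 := Matrix.ext_iff_mulVec.2 fun v => by rw [hS.neg, neg_mulVec, one_mulVec]
  rw [e, Matrix.det_neg, Matrix.det_one, mul_one, Fintype.card_prod, Fintype.card_fin]
  norm_num

theorem z_notMem : z ∉ Cfsg.Omega F ⇑Q := fun h => by
  have h1 := det_omega h
  rw [hS.det_z] at h1
  exact hS.aset.two (by linear_combination -h1)

theorem det_R_sq (e : Fin 3 → F) : (mat Q (hS.R e)).det * (mat Q (hS.R e)).det = 1 := by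
  rw [← Matrix.det_mul, ← mat_mul, hS.R_sq, mat_one, Matrix.det_one]

theorem det_L (e : Fin 3 → F) : (mat Q (hS.L e)).det = (mat Q (hS.R e)).det := by
  rw [hS.L_eq, mat_mul, mat_mul, Matrix.det_mul, Matrix.det_mul, mul_comm, ← mul_assoc, ← Matrix.det_mul,
    ← mat_mul, hS.J_sq, mat_one, Matrix.det_one, one_mul]

theorem neg_pair_notMem (e f : Fin 3 → F) (h : (mat Q (hS.R e)).det = (mat Q (hS.R f)).det) :
    z * (hS.L e * hS.R f) ∉ Cfsg.Omega F ⇑Q := fun hm => by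
  have h1 := det_omega hm
  rw [mat_mul, mat_mul, Matrix.det_mul, Matrix.det_mul, hS.det_z, hS.det_L, h, hS.det_R_sq] at h1
  exact hS.aset.two (by linear_combination -h1)

theorem isRefl_R {e : Fin 3 → F} (he : B₂ e e ≠ 0) :
    ∃ vs, IsReflProd Q (hS.R e) vs ∧ vs.length = 3 := by
  obtain ⟨x, hx⟩ := exists_orth_basis hS.aset.tset.f₁ hS.aset.two
  exact ⟨_, hS.aset.R_isReflProd hx he, List.length_ofFn⟩

theorem R_notMem {e : Fin 3 → F} (he : B₂ e e ≠ 0) : hS.R e ∉ Cfsg.Omega F ⇑Q := fun h => by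
  obtain ⟨vs, hvs, hl⟩ := hS.isRefl_R he
  have := ((mem_omega_iff hS.aset.two hS.aset.tset.nondeg hvs).1 h).1
  rw [hl] at this
  exact absurd this (by decide)

theorem L_notMem {e : Fin 3 → F} (he : B₂ e e ≠ 0) : hS.L e ∉ Cfsg.Omega F ⇑Q := fun h => by
  have h1 := omega_conj h J
  rw [hS.L_eq, hS.J_inv, show J * (J * hS.R e * J) * J = (J * J) * hS.R e * (J * J) by group, hS.J_sq, one_mul,
    mul_one] at h1
  exact hS.R_notMem he h1

theorem det_R {e : Fin 3 → F} (he : B₂ e e ≠ 0) : (mat Q (hS.R e)).det = -1 := by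
  have h : hS.aset.rR e * hS.aset.rR e = 1 := hS.aset.rR_sq e
  set A := ((hS.aset.rR e).1 : Matrix (Fin 3) (Fin 3) F)
  have hkr : mat Q (hS.R e) = (1 : Matrix (Fin 3) (Fin 3) F) ⊗ₖ A :=
    mat_ext_ten fun x y => by rw [hS.R_ten, kron_mulVec_ten, one_mulVec]
  have hA : A.det = -1 := by
    have hvm : A = 1 + Matrix.vecMulVec ((-(2 / B₂ e e)) • e) fun i => B₂ (Pi.single i 1) e := by
      refine Matrix.ext_iff_mulVec.2 fun x => ?_
      rw [hS.aset.rR_apply he, add_mulVec, one_mulVec, Matrix.vecMulVec_mulVec, sub_eq_add_neg, ← neg_smul]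
      congr 1
      have : (fun i => B₂ (Pi.single i 1) e) ⬝ᵥ x = B₂ x e := by
        conv_rhs => rw [pi_eq_sum_univ' x]
        simp [dotProduct, mul_comm]
      rw [this, op_smul_eq_smul, smul_smul]
      congr 1
      ring
    rw [hvm, Matrix.vecMulVec_eq (ι := Unit), Matrix.det_one_add_replicateCol_mul_replicateRow]
    have : (fun i => B₂ (Pi.single i 1) e) ⬝ᵥ e = B₂ e e := by
      conv_rhs => arg 1; arg 2; rw [pi_eq_sum_univ' e]
      simp [dotProduct, mul_comm]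
    rw [dotProduct_smul, this, smul_eq_mul]
    field_simp
    ring
  rw [hkr, Matrix.det_kronecker, hA, Matrix.det_one, one_pow, one_mul, Fintype.card_fin]
  norm_num

end Sq

end CfsgLib.TensorSquareThree
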