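import Mathlib

/-!
# Two involutions are conjugate, or commute with a third one
-/

set_option autoImplicit false

namespace CfsgLib.TensorSquareThree

/-- Two involutions `r`, `t` of a finite group are conjugate by an element of `⟨r, t⟩`, or an involution `c` of
`⟨r, t⟩` commutes with both and each of `c * r`, `c * t` is conjugate to `r` or to `t`. -/
theorem dihedral {G : Type*} [Group G] [Finite G] {r t : G} (hr : r * r = 1) (ht : t * t = 1) :
    (∃ d ∈ Subgroup.closure {r, t}, t = d * r * d⁻¹) ∨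
    ∃ c ∈ Subgroup.closure {r, t}, c ≠ 1 ∧ c * c = 1 ∧ c * r = r * c ∧ c * t = t * c ∧
      ((∃ d ∈ Subgroup.closure {r, t}, c * r = d * r * d⁻¹) ∨
        ∃ d ∈ Subgroup.closure {r, t}, c * r = d * t * d⁻¹) ∧
      ((∃ d ∈ Subgroup.closure {r, t}, c * t = d * r * d⁻¹) ∨
        ∃ d ∈ Subgroup.closure {r, t}, c * t = d * t * d⁻¹) := by
  set K := Subgroup.closure ({r, t} : Set G)
  have hrK : r ∈ K := Subgroup.subset_closure (Set.mem_insert _ _)
  have htK : t ∈ K := Subgroup.subset_closure (Set.mem_insert_of_mem _ rfl)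
  set x := r * t with hx
  have hxK : x ∈ K := K.mul_mem hrK htK
  have hri : r⁻¹ = r := inv_eq_of_mul_eq_one_right hr
  have hti : t⁻¹ = t := inv_eq_of_mul_eq_one_right ht
  have hrx : r * x = x⁻¹ * r := by
    rw [hx, _root_.mul_inv_rev, hri, hti, ← mul_assoc, hr, one_mul, mul_assoc, hr, mul_one]
  have htx : t = r * x := by rw [hx, ← mul_assoc, hr, one_mul]
  have hsc : SemiconjBy r x x⁻¹ := hrx
  have hflip : ∀ j : ℕ, r * x ^ j = (x ^ j)⁻¹ * r := fun j => by
    rw [← inv_pow]; exact hsc.pow_right j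
  have hflip' : ∀ j : ℕ, r * (x ^ j)⁻¹ = x ^ j * r := fun j => by
    have h := hflip j
    calc r * (x ^ j)⁻¹ = r * (x ^ j)⁻¹ * (r * r) := by rw [hr, mul_one]
      _ = r * ((x ^ j)⁻¹ * r) * r := by group
      _ = r * (r * x ^ j) * r := by rw [← h]
      _ = x ^ j * r := by rw [← mul_assoc r r, hr, one_mul]
  have hconj : ∀ j : ℕ, x ^ j * r * (x ^ j)⁻¹ = x ^ (j + j) * r := fun j => by
    rw [mul_assoc, hflip', ← mul_assoc, pow_add]
  rcases Nat.even_or_odd (orderOf x) with ⟨k, hk⟩ | ⟨k, hk⟩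
  swap
  · refine Or.inl ⟨x ^ k, K.pow_mem hxK k, ?_⟩
    rw [hconj, htx, hrx, ← mul_left_inj r⁻¹, mul_inv_cancel_right, mul_inv_cancel_right, inv_eq_iff_mul_eq_one,
      ← pow_succ', show k + k + 1 = orderOf x by omega, pow_orderOf_eq_one]
  refine Or.inr ⟨x ^ k, K.pow_mem hxK k, ?_, ?_, ?_, ?_, ?_, ?_⟩
  · have hpos := orderOf_pos x
    exact pow_ne_one_of_lt_orderOf (by omega) (by omega)
  · rw [← pow_add, ← hk, pow_orderOf_eq_one]
  · rw [hflip]
    congr 1
    rw [eq_comm, inv_eq_iff_mul_eq_one, ← pow_add, ← hk, pow_orderOf_eq_one]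
  · have hc : r * x ^ k = x ^ k * r := by
      rw [hflip]; congr 1
      rw [inv_eq_iff_mul_eq_one, ← pow_add, ← hk, pow_orderOf_eq_one]
    rw [htx, ← mul_assoc, ← hc, mul_assoc, mul_assoc, ← pow_succ, ← pow_succ']
  all_goals
    have key : ∀ m : ℕ, (∃ d ∈ K, x ^ m * r = d * r * d⁻¹) ∨ ∃ d ∈ K, x ^ m * r = d * t * d⁻¹ := fun m => by
      rcases Nat.even_or_odd m with ⟨j, hj⟩ | ⟨j, hj⟩
      · exact Or.inl ⟨x ^ j, K.pow_mem hxK j, by rw [hconj, hj]⟩
      · refine Or.inr ⟨x ^ j * r, K.mul_mem (K.pow_mem hxK j) hrK, ?_⟩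
        rw [show x ^ j * r * t * (x ^ j * r)⁻¹ = x ^ j * (r * t) * (r⁻¹ * (x ^ j)⁻¹) by group, hri, hflip', ← hx,
          ← mul_assoc, ← pow_succ, ← pow_add, show j + 1 + j = m by omega]
  · exact key k
  · have e : x ^ k * t = x ^ (k + orderOf x - 1) * r := by
      have hpos := orderOf_pos x
      rw [htx, hrx, ← mul_assoc, mul_left_inj, mul_inv_eq_iff_eq_mul, ← pow_succ,
        show k + orderOf x - 1 + 1 = k + orderOf x by omega, pow_add, pow_orderOf_eq_one, mul_one]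
    rw [e]; exact key _

end CfsgLib.TensorSquareThree
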