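import Cfsg.Agent.TensorSquareThree.NoFlip
import Cfsg.Agent.TensorSquareThree.Dihedral

/-!
# An overgroup of the tensor square stabiliser in `Ω₉(q)` lies in it

The centralisers in `M` of the involutions `-R f`, `-L e` and `L e R f` are shown to lie in the stabiliser; the
dihedral trick then pins down all of `M`.
-/

set_option autoImplicit false
set_option linter.unusedSectionVars false

namespace CfsgLib.TensorSquareThree

open Matrix Module CfsgLib.Spinor CfsgLib.OrthMax CfsgLib.TensorOrth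
open CfsgLib.TensorMax (Idx ten ten_add_left ten_add_right ten_smul_left ten_smul_right ten_eq_zero
  ten_inj_left ten_inj_right)
open CfsgLib.TensorSlice (ASet IsOrth Pure ten_neg_left ten_neg_right)

variable {F : Type*} [Field F] [Fintype F] {Q : QuadraticForm F (Idx 3 3 → F)}
  {B₁ B₂ : LinearMap.BilinForm F (Fin 3 → F)} {J z : Isom Q} {M : Subgroup (Isom Q)}

namespace Sq

variable (hS : Sq Q B₁ B₂ J z)
include hS

theorem P_ne_one {f : Fin 3 → F} (hf : B₂ f f ≠ 0) : hS.P f ≠ 1 := fun h => by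
  obtain ⟨k, hk, hkf, -⟩ := hS.exists_class_perp hf
  obtain ⟨x, hx⟩ := hS.aset.exists_ne₁
  have h1 : mat Q (hS.P f) *ᵥ ten x k = ten x k := by rw [h, mat_one, one_mulVec]
  rw [Sq.P, hS.mul_ten, hS.R_ten, hS.aset.rR_fix hf hkf, hS.neg, neg_eq_iff_add_eq_zero, ← two_smul F,
    smul_eq_zero, or_iff_right hS.aset.two, ten_eq_zero] at h1
  exact h1.elim hx fun h0 => hk (by simp [h0])

theorem conj_R (k : isoG B₂) (l : isoG B₂) {e : Fin 3 → F} (he : B₂ e e ≠ 0) :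
    hS.kL l * hS.kR k * hS.R e * (hS.kL l * hS.kR k)⁻¹
      = hS.R ((k.1 : Matrix (Fin 3) (Fin 3) F) *ᵥ e) := by
  show hS.kL l * hS.kR k * hS.kR _ * _ = hS.kR _
  rw [_root_.mul_inv_rev, ← hS.aset.rR_conj k he, map_mul, map_mul, map_inv,
    show hS.kL l * hS.kR k * hS.kR (hS.aset.rR e) * ((hS.kR k)⁻¹ * (hS.kL l)⁻¹)
      = hS.kL l * (hS.kR k * hS.kR (hS.aset.rR e) * (hS.kR k)⁻¹) * (hS.kL l)⁻¹ by group,
    ← map_inv hS.kR, ← map_mul, ← map_mul, hS.LR_comm, mul_inv_cancel_right]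

theorem conj_L (k : isoG B₂) (l : isoG B₂) {e : Fin 3 → F} (he : B₂ e e ≠ 0) :
    hS.kL l * hS.kR k * hS.L e * (hS.kL l * hS.kR k)⁻¹
      = hS.L ((l.1 : Matrix (Fin 3) (Fin 3) F) *ᵥ e) := by
  show hS.kL l * hS.kR k * hS.kL _ * _ = hS.kL _
  rw [_root_.mul_inv_rev, ← hS.aset.rR_conj l he, map_mul, map_mul, map_inv, mul_assoc (hS.kL l),
    show hS.kR k * hS.kL (hS.aset.rR e) = hS.kL (hS.aset.rR e) * hS.kR k from (hS.LR_comm _ _).symm]
  group

theorem commute_LR (a b : Fin 3 → F) : hS.L a * hS.R b = hS.R b * hS.L a := hS.LR_comm _ _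

theorem commute_R_orth {a b : Fin 3 → F} (ha : B₂ a a ≠ 0) (hb : B₂ b b ≠ 0) (h : B₂ b a = 0) :
    hS.R a * hS.R b = hS.R b * hS.R a := by
  have h1 := hS.conj_R (hS.aset.rR a) 1 hb
  rw [map_one, one_mul, hS.aset.rR_fix ha h] at h1
  exact mul_inv_eq_iff_eq_mul.1 h1

theorem R_comm_of_pair_comm {e f g : Fin 3 → F} (h : hS.L e * hS.R g * hS.P f = hS.P f * (hS.L e * hS.R g)) :
    hS.R g * hS.R f = hS.R f * hS.R g := by
  rw [Sq.P, ← mul_assoc, hS.z_comm, mul_assoc, mul_assoc z, mul_left_cancel_iff, mul_assoc,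
    ← mul_assoc (hS.R f), ← hS.commute_LR, mul_assoc, mul_left_cancel_iff] at h
  exact h

theorem P_comm_pair {a f : Fin 3 → F} (e : Fin 3 → F) (h : hS.R a * hS.R f = hS.R f * hS.R a) :
    hS.P a * (hS.L e * hS.R f) = hS.L e * hS.R f * hS.P a :=
  (Commute.mul_left (show Commute z (hS.L e * hS.R f) from (hS.z_comm _).symm)
    (Commute.mul_right (show Commute (hS.R a) (hS.L e) from (hS.commute_LR e a).symm) h)).eq

theorem pair_mul_P (e g f : Fin 3 → F) : hS.L e * hS.R g * hS.P f = hS.Lam e * (hS.P g * hS.P f) := by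
  rw [← hS.Lam_mul_P, mul_assoc]

/-- An involution exchanging the factors has trace `± 3`. -/
theorem tr_flip_ne {σ : Isom Q} (h : J * σ ∈ Kr Q) (h2 : σ * σ = 1) : tr σ ≠ 1 := by
  obtain ⟨A, B, hAB⟩ := hS.factors h
  have hσ : σ = J * (hS.kL A * hS.kR B) := by rw [← hAB, ← mul_assoc, hS.J_sq, one_mul]
  set Ma := (A.1 : Matrix (Fin 3) (Fin 3) F)
  set Mb := (B.1 : Matrix (Fin 3) (Fin 3) F)
  have hσv : ∀ x y, mat Q σ *ᵥ ten x y = ten (Mb *ᵥ y) (Ma *ᵥ x) := fun x y => by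
    rw [hσ, hS.mul_ten, hS.mul_ten, hS.kR_ten, hS.kL_ten, hS.flip]
  have hsq : ∀ x y, ten ((Mb * Ma) *ᵥ x) ((Ma * Mb) *ᵥ y) = ten x y := fun x y => by
    have h3 : mat Q (σ * σ) *ᵥ ten x y = ten x y := by rw [h2, mat_one, one_mulVec]
    rw [hS.mul_ten, hσv, hσv] at h3
    rwa [← mulVec_mulVec, ← mulVec_mulVec]
  have hy0 : (Pi.single (0 : Fin 3) (1 : F) : Fin 3 → F) ≠ 0 := by simp
  obtain ⟨w, hw⟩ := hS.aset.tset.f₂.exists_one hy0
  set lam := B₂ ((Ma * Mb) *ᵥ Pi.single 0 1) w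
  have hlam : ∀ x, lam • ((Mb * Ma) *ᵥ x) = x := fun x => by
    have h1 := congrArg (evB B₂ w) (hsq x (Pi.single 0 1))
    rwa [evB_ten, evB_ten, hS.aset.symm₂ (Pi.single 0 1) w, hw, one_smul] at h1
  have hl2 : lam * lam = 1 := by
    have h1 := hlam (Pi.single 0 1)
    have h3 : B₂ ((Mb * Ma) *ᵥ Pi.single 0 1) ((Mb * Ma) *ᵥ w) = B₂ (Pi.single 0 1) w := by
      rw [← mulVec_mulVec, ← mulVec_mulVec, B.2, A.2]
    have h4 : B₂ (lam • ((Mb * Ma) *ᵥ Pi.single 0 1)) (lam • ((Mb * Ma) *ᵥ w)) = B₂ (Pi.single 0 1) w := by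
      rw [hlam, hlam]
    rw [map_smul, map_smul, LinearMap.smul_apply, h3, hS.aset.symm₂, hw, smul_eq_mul, smul_eq_mul, mul_one] at h4
    exact h4
  rw [hσ, hS.tr_flip]
  intro ht
  have hM : lam • (Mb * Ma) = 1 := Matrix.ext_iff_mulVec.2 fun x => by rw [smul_mulVec, hlam, one_mulVec]
  have h5 := congrArg Matrix.trace hM
  rw [Matrix.trace_smul, ht, Matrix.trace_one, Fintype.card_fin, smul_eq_mul, mul_one] at h5
  rw [h5] at hl2
  have h8 : (2 : F) * (2 * 2) = 0 := by linear_combination (norm := (push_cast; ring)) hl2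
  exact mul_ne_zero hS.aset.two (mul_ne_zero hS.aset.two hS.aset.two) h8

theorem tr_one_ne : tr (1 : Isom Q) ≠ 1 := by
  intro h
  have h9 : tr (1 : Isom Q) = 9 := by
    show Matrix.trace (mat Q 1) = _
    rw [mat_one, Matrix.trace_one, Fintype.card_prod, Fintype.card_fin]
    norm_num
  rw [h9] at h
  have h8 : (2 : F) * (2 * 2) = 0 := by linear_combination h
  exact mul_ne_zero hS.aset.two (mul_ne_zero hS.aset.two hS.aset.two) h8

end Sq

namespace Over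

variable {hS : Sq Q B₁ B₂ J z} (hM : Over hS M)
include hM

/-- Only elements of the stabiliser conjugate `P f` into it. -/
theorem conj_P_mem {g : Isom Q} (hg : g ∈ M) {f : Fin 3 → F} (hf : B₂ f f ≠ 0)
    (hP : hS.P f ∈ Cfsg.Omega F ⇑Q) (h : g * hS.P f * g⁻¹ ∈ hS.Nr) : g ∈ hS.Nr := by
  rcases h with h | h
  swap
  · exact (hM.no_flip_conj hg hf hP h).elim
  have h2 : g * hS.P f * g⁻¹ * (g * hS.P f * g⁻¹) = 1 := by
    rw [show g * hS.P f * g⁻¹ * (g * hS.P f * g⁻¹) = g * (hS.P f * hS.P f) * g⁻¹ by group, hS.P_sq, mul_one,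
      mul_inv_cancel]
  rcases hS.kr_inv_cases h (omega_conj hP g) h2 with h1 | ⟨f', hf', h1⟩ | ⟨e', he', h1⟩ | ⟨e', f', he', hf', h1⟩
  · exact absurd (conj_eq_one_iff.1 h1) (hS.P_ne_one hf)
  · obtain ⟨h₀, hh₀, hag⟩ := hS.exists_kr_of_pure hf (hS.pure_of_conj hf hf' h1)
    obtain ⟨k, hk, rfl⟩ := hM.eq_mul_kr hg (hS.kr_le_nr hh₀) hf hag
    exact hS.Nr.mul_mem (hS.kr_le_nr hh₀) (hS.kr_le_nr hk)
  · have hJ : J * g * hS.P f * (J * g)⁻¹ = hS.P e' := by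
      rw [show J * g * hS.P f * (J * g)⁻¹ = J * (g * hS.P f * g⁻¹) * J⁻¹ by group, h1, hS.Lam_eq, hS.J_inv,
        show J * (J * hS.P e' * J) * J = (J * J) * hS.P e' * (J * J) by group, hS.J_sq, one_mul, mul_one]
    obtain ⟨h₀, hh₀, hag⟩ := hS.exists_kr_of_pure hf (hS.pure_of_conj hf he' hJ)
    have hmem : J * h₀ ∈ hS.Nr := hS.Nr.mul_mem hS.J_mem (hS.kr_le_nr hh₀)
    obtain ⟨k, hk, rfl⟩ := hM.eq_mul_kr hg hmem hf fun x => by
      rw [hS.mul_ten, ← hag, hS.mul_ten, ← hS.mul_ten J J, hS.J_sq, mat_one, one_mulVec]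
    exact hS.Nr.mul_mem hmem (hS.kr_le_nr hk)
  · have h3 := congrArg tr h1
    rw [tr_conj, hS.tr_P hf, hS.tr_LR he' hf'] at h3
    exact absurd h3 hS.trace_ne

theorem closure_le {r t : Isom Q} (hr : r ∈ M) (ht : t ∈ M) : Subgroup.closure {r, t} ≤ M :=
  (Subgroup.closure_le _).2 (by rintro x (rfl | rfl) <;> assumption)

/-- The centraliser of a pair `L e * R f` with a class vector `f` lies in the stabiliser. -/
theorem cen_pair {e f : Fin 3 → F} (he : B₂ e e ≠ 0) (hf : B₂ f f ≠ 0) (hP : hS.P f ∈ Cfsg.Omega F ⇑Q)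
    {g : Isom Q} (hg : g ∈ M) (hgs : g * (hS.L e * hS.R f) = hS.L e * hS.R f * g) : g ∈ hS.Nr := by
  set s := hS.L e * hS.R f with hs
  set r := hS.P f with hr
  obtain ⟨f', hf', hf'f, hP'⟩ := hS.exists_class_perp hf
  set a := hS.P f' with ha
  set t := g * a * g⁻¹ with ht
  have hrM : r ∈ M := hM.mem_kr hP (hS.P_mem f)
  have haM : a ∈ M := hM.mem_kr hP' (hS.P_mem f')
  have htM : t ∈ M := M.mul_mem (M.mul_mem hg haM) (M.inv_mem hg)
  refine hM.conj_P_mem hg hf' hP' ?_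
  show t ∈ hS.Nr
  have hrs : r * s = s * r := hS.P_comm_pair e rfl
  have has : a * s = s * a := hS.P_comm_pair e (hS.commute_R_orth hf' hf (by rw [hS.aset.symm₂, hf'f]))
  have hts : t * s = s * t := by
    rw [ht, mul_assoc _ g⁻¹ s, show g⁻¹ * s = s * g⁻¹ by
      rw [inv_mul_eq_iff_eq_mul, ← mul_assoc, hgs, mul_inv_cancel_right], ← mul_assoc, mul_assoc g a s, has,
      ← mul_assoc, hgs]
    group
  have hcl : Subgroup.closure {r, t} ≤ M ⊓ Subgroup.centralizer {s} :=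
    (Subgroup.closure_le _).2 (by
      rintro x (rfl | rfl)
      · exact ⟨hrM, Subgroup.mem_centralizer_singleton_iff.2 hrs⟩
      · exact ⟨htM, Subgroup.mem_centralizer_singleton_iff.2 hts⟩)
  have hsr : tr (s * r) = -3 := by
    rw [hs, hr, hS.pair_mul_P, hS.P_sq, mul_one, hS.tr_Lam he]
  have hsa : tr (s * a) = 1 := by
    obtain ⟨k, hk, -, -, hk', -⟩ := hS.exists_third hf hf' (by rw [hS.aset.symm₂, hf'f])
    rw [hs, ha, hS.pair_mul_P, hk', hS.Lam_mul_P, hS.tr_LR he hk]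
  have hst : tr (s * t) = 1 := by
    rw [ht, show s * (g * a * g⁻¹) = g * (s * a) * g⁻¹ by
      rw [← mul_assoc, ← mul_assoc, ← hgs]; group, tr_conj, hsa]
  have hr2 : r * r = 1 := hS.P_sq f
  have ht2 : t * t = 1 := by
    rw [ht, show g * a * g⁻¹ * (g * a * g⁻¹) = g * (a * a) * g⁻¹ by group, hS.P_sq, mul_one, mul_inv_cancel]
  rcases dihedral hr2 ht2 with ⟨d, hd, hdt⟩ | ⟨c, hc, hc1, hc2, hcr, hct, hcr', hct'⟩
  · have hds : d * s = s * d := Subgroup.mem_centralizer_singleton_iff.1 (hcl hd).2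
    exfalso
    rw [hdt, show s * (d * r * d⁻¹) = d * (s * r) * d⁻¹ by
      rw [← mul_assoc, ← mul_assoc, ← hds]; group, tr_conj, hsr] at hst
    exact hS.trace_ne hst
  obtain ⟨hcM, hcs⟩ := hcl hc
  have hcs' : c * s = s * c := Subgroup.mem_centralizer_singleton_iff.1 hcs
  have hcK : c ∈ Kr Q := hM.cen_P hcM hf hcr
  have htr : ∀ w, (∃ d ∈ Subgroup.closure {r, t}, w = d * r * d⁻¹) ∨
      (∃ d ∈ Subgroup.closure {r, t}, w = d * t * d⁻¹) → tr w = -3 := by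
    rintro w (⟨d, -, rfl⟩ | ⟨d, -, rfl⟩)
    · rw [tr_conj, hr, hS.tr_P hf]
    · rw [tr_conj, ht, tr_conj, ha, hS.tr_P hf']
  rcases hS.kr_inv_cases hcK (hM.le hcM) hc2 with h1 | ⟨f₁, hf₁, h1⟩ | ⟨e₁, he₁, h1⟩ | ⟨e₁, f₁, he₁, hf₁, h1⟩
  · exact absurd h1 hc1
  · exact hS.kr_le_nr (hM.cen_P htM hf₁ (by rw [← h1, hct]))
  · exact hS.kr_le_nr (hM.cen_Lam htM he₁ (by rw [← h1, hct]))
  have hRR := hS.R_comm_of_pair_comm (e := e₁) (f := f) (g := f₁) (by rw [← h1]; exact hcr)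
  rcases hS.R_comm_cases hf hf₁ hRR with h0 | h0
  · exfalso
    obtain ⟨k, hk, -, -, hk', -⟩ := hS.exists_third hf₁ hf h0
    have h3 : tr (c * r) = 1 := by rw [h1, hr, hS.pair_mul_P, hk', hS.Lam_mul_P, hS.tr_LR he₁ hk]
    exact hS.trace_ne ((htr _ hcr').symm.trans h3)
  rw [h0] at h1
  have hLL : hS.R e₁ * hS.R e = hS.R e * hS.R e₁ := by
    have h3 : hS.L e₁ * hS.L e = hS.L e * hS.L e₁ := by
      have h4 := hcs'
      rw [h1, hs] at h4
      have : ∀ a b : Fin 3 → F, hS.L a * hS.R f * (hS.L b * hS.R f) = hS.L a * hS.L b := fun a b => by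
        rw [hS.commute_LR b f, show hS.L a * hS.R f * (hS.R f * hS.L b) = hS.L a * (hS.R f * hS.R f) * hS.L b by
          group, hS.R_sq, mul_one]
      rwa [this, this] at h4
    have : ∀ a b : Fin 3 → F, hS.L a * hS.L b = J * (hS.R a * hS.R b) * J := fun a b => by
      rw [hS.L_eq, hS.L_eq, show J * hS.R a * J * (J * hS.R b * J) = J * hS.R a * (J * J) * hS.R b * J by group,
        hS.J_sq, mul_one, mul_assoc J]
    rw [this, this] at h3
    exact mul_left_cancel (mul_right_cancel h3)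
  rcases hS.R_comm_cases he he₁ hLL with h5 | h5
  · -- `c * s` is minus a left reflection
    obtain ⟨k, hk, -, -, -, hk'⟩ := hS.exists_third he₁ he h5
    have hcs2 : c * s = hS.Lam k := by
      rw [h1, hs, hS.commute_LR e f,
        show hS.L e₁ * hS.R f * (hS.R f * hS.L e) = hS.L e₁ * (hS.R f * hS.R f) * hS.L e by group, hS.R_sq,
        mul_one, ← hk', Sq.Lam, Sq.Lam,
        show z * hS.L e₁ * (z * hS.L e) = z * (hS.L e₁ * z) * hS.L e by group, hS.z_comm, ← mul_assoc z z,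
        hS.z_sq, one_mul]
    refine hS.kr_le_nr (hM.cen_Lam htM hk ?_)
    rw [← hcs2, ← mul_assoc, ← hct, mul_assoc, hts, ← mul_assoc]
  · exfalso
    have hcs3 : c = s := by rw [h1, hs, hS.L_eq, hS.L_eq, h5]
    have h3 := htr _ hct'
    rw [hcs3, hst] at h3
    exact hS.trace_ne h3.symm

/-- Only elements of the stabiliser conjugate a class pair to a pair. -/
theorem pair_conj {e f : Fin 3 → F} (he : B₂ e e ≠ 0) (hf : B₂ f f ≠ 0) (hP : hS.P f ∈ Cfsg.Omega F ⇑Q)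
    {g : Isom Q} (hg : g ∈ M) {e' f' : Fin 3 → F} (hf' : B₂ f' f' ≠ 0)
    (h : g * (hS.L e * hS.R f) * g⁻¹ = hS.L e' * hS.R f') : g ∈ hS.Nr := by
  obtain ⟨f₁, hf₁, hf₁', hP₁⟩ := hS.exists_class_perp hf'
  set X := hS.P f₁ with hX
  have hXt : X * (hS.L e' * hS.R f') = hS.L e' * hS.R f' * X :=
    hS.P_comm_pair e' (hS.commute_R_orth hf₁ hf' (by rw [hS.aset.symm₂, hf₁']))
  have hXM : X ∈ M := hM.mem_kr hP₁ (hS.P_mem f₁)
  have hconj : g⁻¹ * X * g ∈ hS.Nr := by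
    refine hM.cen_pair he hf hP (M.mul_mem (M.mul_mem (M.inv_mem hg) hXM) hg) ?_
    have hs' : hS.L e * hS.R f = g⁻¹ * (hS.L e' * hS.R f') * g := by rw [← h]; group
    rw [hs', show g⁻¹ * X * g * (g⁻¹ * (hS.L e' * hS.R f') * g) = g⁻¹ * (X * (hS.L e' * hS.R f')) * g by group, hXt]
    group
  have h1 : g⁻¹ ∈ hS.Nr := hM.conj_P_mem (M.inv_mem hg) hf₁ hP₁ (by rwa [inv_inv])
  simpa using hS.Nr.inv_mem h1

/-- A class pair stays one under the stabiliser. -/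
theorem class_conj {e f : Fin 3 → F} (he : B₂ e e ≠ 0) (hf : B₂ f f ≠ 0) (hP : hS.P f ∈ Cfsg.Omega F ⇑Q)
    (hs : hS.L e * hS.R f ∈ Cfsg.Omega F ⇑Q) {g : Isom Q} (hg : g ∈ hS.Nr) {e' f' : Fin 3 → F}
    (he' : B₂ e' e' ≠ 0) (hf' : B₂ f' f' ≠ 0)
    (h : g * (hS.L e * hS.R f) * g⁻¹ = hS.L e' * hS.R f') : hS.P f' ∈ Cfsg.Omega F ⇑Q := by
  rcases hg with hg | hg
  · obtain ⟨S, T, rfl⟩ := hS.factors hg
    rw [show hS.kL S * hS.kR T * (hS.L e * hS.R f) * (hS.kL S * hS.kR T)⁻¹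
        = hS.kL S * hS.kR T * hS.L e * (hS.kL S * hS.kR T)⁻¹ * (hS.kL S * hS.kR T * hS.R f * (hS.kL S * hS.kR T)⁻¹)
      by group, hS.conj_R T S hf, hS.conj_L T S he] at h
    have hR := hS.pair_eq (by rw [S.2]; exact he) (by rw [T.2]; exact hf) he' hf' h
    have : hS.P f' = hS.kL S * hS.kR T * hS.P f * (hS.kL S * hS.kR T)⁻¹ := by
      rw [Sq.P, Sq.P, ← hR, ← hS.conj_R T S hf, ← mul_assoc _ z, hS.z_comm, mul_assoc z, mul_assoc z]
    rw [this]
    exact omega_conj hP _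
  · obtain ⟨S, T, hST⟩ := hS.factors hg
    obtain rfl : g = J * (hS.kL S * hS.kR T) := by rw [← hST, ← mul_assoc, hS.J_sq, one_mul]
    set k := hS.kL S * hS.kR T with hk
    have hkk : k * (hS.L e * hS.R f) * k⁻¹
        = hS.L ((S.1 : Matrix (Fin 3) (Fin 3) F) *ᵥ e) * hS.R ((T.1 : Matrix (Fin 3) (Fin 3) F) *ᵥ f) := by
      rw [hk, show hS.kL S * hS.kR T * (hS.L e * hS.R f) * (hS.kL S * hS.kR T)⁻¹
          = hS.kL S * hS.kR T * hS.L e * (hS.kL S * hS.kR T)⁻¹ *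
            (hS.kL S * hS.kR T * hS.R f * (hS.kL S * hS.kR T)⁻¹) by group, hS.conj_R T S hf, hS.conj_L T S he]
    rw [show J * k * (hS.L e * hS.R f) * (J * k)⁻¹ = J * (k * (hS.L e * hS.R f) * k⁻¹) * J⁻¹ by group, hkk,
      hS.J_inv] at h
    have hflip : ∀ a b, J * (hS.L a * hS.R b) * J = hS.L b * hS.R a := fun a b => by
      rw [hS.L_eq a, show J * (J * hS.R a * J * hS.R b) * J = (J * J) * hS.R a * (J * hS.R b * J) by group,
        hS.J_sq, one_mul, ← hS.L_eq, hS.commute_LR]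
    rw [hflip] at h
    have hR := hS.pair_eq (by rw [T.2]; exact hf) (by rw [S.2]; exact he) he' hf' h
    have hLam : hS.Lam e ∈ Cfsg.Omega F ⇑Q := by
      have : hS.Lam e = hS.L e * hS.R f * hS.P f := by rw [hS.pair_mul_P, hS.P_sq, mul_one]
      rw [this]
      exact (Cfsg.Omega F ⇑Q).mul_mem hs hP
    have : hS.P f' = J * (k * hS.Lam e * k⁻¹) * J⁻¹ := by
      rw [Sq.Lam, Sq.P, ← hR, show k * (z * hS.L e) * k⁻¹ = k * z * hS.L e * k⁻¹ by group, hS.z_comm k,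
        show z * k * hS.L e * k⁻¹ = z * (k * hS.L e * k⁻¹) by group, hk, hS.conj_L T S he, hS.J_inv,
        ← mul_assoc J z, hS.z_comm J, hS.L_eq, show z * J * (J * hS.R ((S.1 : Matrix (Fin 3) (Fin 3) F) *ᵥ e) * J) * J
          = z * (J * J) * hS.R ((S.1 : Matrix (Fin 3) (Fin 3) F) *ᵥ e) * (J * J) by group, hS.J_sq, mul_one,
        mul_one]
    rw [this]
    exact omega_conj (omega_conj hLam _) _

/-- An overgroup lies in the stabiliser of the tensor square. -/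
theorem mem_nr {g : Isom Q} (hg : g ∈ M) : g ∈ hS.Nr := by
  obtain ⟨f, hf, hP⟩ := hS.exists_class
  set r := hS.P f with hr
  set s := hS.L f * hS.R f with hs
  have hsΩ : s ∈ Cfsg.Omega F ⇑Q := hS.self_pair_omega f
  set t := g * s * g⁻¹ with ht
  have hrM : r ∈ M := hM.mem_kr hP (hS.P_mem f)
  have htM : t ∈ M := M.mul_mem (M.mul_mem hg (hM.mem_kr hsΩ (hS.pair_mem f f))) (M.inv_mem hg)
  have hr2 : r * r = 1 := hS.P_sq f
  have ht2 : t * t = 1 := by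
    rw [ht, show g * s * g⁻¹ * (g * s * g⁻¹) = g * (s * s) * g⁻¹ by group, hS.pair_sq, mul_one, mul_inv_cancel]
  have htr : tr t = 1 := by rw [ht, tr_conj, hs, hS.tr_LR hf hf]
  have key : t ∈ hS.Nr → g ∈ hS.Nr := by
    intro htN
    rcases htN with h | h
    swap
    · exact absurd htr (hS.tr_flip_ne h ht2)
    rcases hS.kr_inv_cases h (hM.le htM) ht2 with h1 | ⟨f₁, hf₁, h1⟩ | ⟨e₁, he₁, h1⟩ | ⟨e₁, f₁, he₁, hf₁, h1⟩
    · rw [h1] at htr; exact absurd htr hS.tr_one_ne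
    · rw [h1, hS.tr_P hf₁] at htr; exact absurd htr hS.trace_ne
    · rw [h1, hS.tr_Lam he₁] at htr; exact absurd htr hS.trace_ne
    · exact hM.pair_conj hf hf hP hg hf₁ h1
  refine key ?_
  rcases dihedral hr2 ht2 with ⟨d, -, hdt⟩ | ⟨c, hc, hc1, hc2, hcr, hct, hcr', -⟩
  · rw [hdt, tr_conj, hr, hS.tr_P hf] at htr
    exact absurd htr hS.trace_ne
  have hcl := hM.closure_le hrM htM
  have hcM : c ∈ M := hcl hc
  have hcK : c ∈ Kr Q := hM.cen_P hcM hf hcr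
  rcases hS.kr_inv_cases hcK (hM.le hcM) hc2 with h1 | ⟨f₁, hf₁, h1⟩ | ⟨e₁, he₁, h1⟩ | ⟨e₁, f₁, he₁, hf₁, h1⟩
  · exact absurd h1 hc1
  · exact hS.kr_le_nr (hM.cen_P htM hf₁ (by rw [← h1, hct]))
  · exact hS.kr_le_nr (hM.cen_Lam htM he₁ (by rw [← h1, hct]))
  have hRR := hS.R_comm_of_pair_comm (e := e₁) (f := f) (g := f₁) (by rw [← h1]; exact hcr)
  rcases hS.R_comm_cases hf hf₁ hRR with h0 | h0
  swap
  · rw [h0] at h1
    exact hM.cen_pair he₁ hf hP htM (by rw [← h1, hct])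
  obtain ⟨k, hk, -, -, hk', -⟩ := hS.exists_third hf₁ hf h0
  have h3 : c * r = hS.L e₁ * hS.R k := by rw [h1, hr, hS.pair_mul_P, hk', hS.Lam_mul_P]
  rcases hcr' with ⟨d, -, hd⟩ | ⟨d, hd', hd⟩
  · have h4 := congrArg tr hd
    rw [h3, hS.tr_LR he₁ hk, tr_conj, hr, hS.tr_P hf] at h4
    exact absurd h4.symm hS.trace_ne
  rw [h3, ht, show d * (g * s * g⁻¹) * d⁻¹ = d * g * s * (d * g)⁻¹ by group] at hd
  have hdg : d * g ∈ hS.Nr := hM.pair_conj hf hf hP (M.mul_mem (hcl hd') hg) hk hd.symm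
  have hPk := class_conj hM hf hf hP hsΩ hdg he₁ hk hd.symm
  have hP₁ : hS.P f₁ ∈ Cfsg.Omega F ⇑Q := by
    have : hS.P f₁ = hS.P k * hS.P f := by rw [← hk', mul_assoc, hS.P_sq, mul_one]
    rw [this]
    exact (Cfsg.Omega F ⇑Q).mul_mem hPk hP
  exact hM.cen_pair he₁ hf₁ hP₁ htM (by rw [← h1, hct])

end Over

end CfsgLib.TensorSquareThree
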