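import Cfsg.Agent.HallHigman.TheoremBLinear
import Cfsg.Agent.LocalStructure.Cores

/-!
# A cubic `p`-element normalising a `p'`-group centralises it, `p ≥ 5`
-/

set_option autoImplicit false
set_option linter.style.haveILetI false

namespace CfsgLib.TensorSquareThree

open Subgroup
open scoped Pointwise

/-- In a linear group of characteristic `p ≥ 5` a `p`-element `u` with `(u - 1)^3 = 0` centralises every
`p'`-subgroup it normalises. -/
theorem commute_of_cube {F : Type*} [Field F] {p : ℕ} [hp : Fact p.Prime] [CharP F p] (hp5 : 5 ≤ p)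
    {V : Type*} [AddCommGroup V] [Module F V] [FiniteDimensional F V] [Nontrivial V] {G : Type*} [Group G]
    [Finite G] (ρ : G →* Module.End F V) (hρ : Function.Injective ρ) {Y : Subgroup G}
    (hY : ¬ p ∣ Nat.card Y) {u : G} (hu : u ∈ normalizer (Y : Set G)) (hup : u ^ p = 1)
    (h3 : (ρ u - 1) ^ 3 = 0) {y : G} (hy : y ∈ Y) : u * y = y * u := by
  by_contra hne
  have hu1 : u ≠ 1 := fun h => hne (by rw [h, one_mul, mul_one])
  have hord : orderOf u = p := orderOf_eq_prime hup hu1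
  set H := zpowers u ⊔ Y with hH
  have hZ : zpowers u ≤ normalizer (Y : Set G) := zpowers_le.2 hu
  have hHN : H ≤ normalizer (Y : Set G) := sup_le hZ le_normalizer
  have hdec : ∀ g ∈ H, ∃ i : ℤ, ∃ w ∈ Y, g = u ^ i * w := by
    intro g hg
    have hcoe := coe_mul_of_left_le_normalizer_right (zpowers u) Y hZ
    have hg' : g ∈ (zpowers u : Set G) * (Y : Set G) := by rw [← hcoe]; exact hg
    obtain ⟨a, ⟨i, rfl⟩, w, hw, rfl⟩ := Set.mem_mul.1 hg'
    exact ⟨i, w, hw, rfl⟩
  set Y' := Y.subgroupOf H with hY'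
  haveI : Y'.Normal := normal_subgroupOf_of_le_normalizer hHN
  have hYcop : (Nat.card Y').Coprime p := by
    rw [Nat.card_congr (Subgroup.subgroupOfEquivOfLe (le_sup_right : Y ≤ H)).toEquiv]
    exact ((hp.out.coprime_iff_not_dvd).2 hY).symm
  have hquot : IsPGroup p (H ⧸ Y') := fun q => by
    obtain ⟨⟨g, hg⟩, rfl⟩ := QuotientGroup.mk'_surjective Y' q
    obtain ⟨i, w, hw, rfl⟩ := hdec g hg
    refine ⟨1, ?_⟩
    have hui : u ^ i ∈ H := le_sup_left (a := zpowers u) ⟨i, rfl⟩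
    have e : QuotientGroup.mk' Y' ⟨u ^ i * w, hg⟩ = QuotientGroup.mk' Y' ⟨u ^ i, hui⟩ := by
      rw [QuotientGroup.mk'_eq_mk']
      refine ⟨⟨w⁻¹, H.inv_mem (le_sup_right (a := zpowers u) hw)⟩, Y.inv_mem hw, ?_⟩
      exact Subtype.ext (mul_inv_cancel_right _ _)
    rw [e, pow_one, ← map_pow, show (⟨u ^ i, hui⟩ : H) ^ p = 1 from Subtype.ext (by
      show (u ^ i) ^ p = 1
      rw [← zpow_natCast, ← zpow_mul, mul_comm, zpow_mul, zpow_natCast, hup, one_zpow]), map_one]
  have hsol : Cfsg.IsPSolvable p H := CfsgLib.PLocal.isPSolvable_of_extension Y'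
    (CfsgLib.PLocal.isPSolvable_of_coprime hYcop) (CfsgLib.PLocal.isPSolvable_of_isPGroup hquot)
  set x : H := ⟨u, le_sup_left (a := zpowers u) (mem_zpowers u)⟩ with hx
  by_cases hO : Cfsg.pCore p H = ⊥
  · rcases CfsgLib.HallHigman.degree_bound (ρ.comp H.subtype) (hρ.comp H.subtype_injective) hsol hO x
      (n := 1) (by rw [pow_one, ← hord, ← orderOf_injective H.subtype H.subtype_injective]; rfl) 3 h3 with
      h | ⟨n₀, q, e, h1, h2, -, -, -, -, h6⟩
    · rw [pow_one] at h; omega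
    · obtain rfl : n₀ = 1 := by omega
      rw [Nat.sub_self, pow_zero, one_mul, pow_one] at h6
      omega
  haveI : (Cfsg.pCore p H).Normal := CfsgLib.LocalStructure.pCore_normal
  have hOp : IsPGroup p (Cfsg.pCore p H) := CfsgLib.LocalStructure.pCore_isPGroup
  have hdisj : Cfsg.pCore p H ⊓ Y' = ⊥ := by
    obtain ⟨n, hn⟩ := IsPGroup.iff_card.1 hOp
    exact inf_eq_bot_of_coprime (by rw [hn]; exact (hYcop.pow_right n).symm)
  obtain ⟨⟨g, hg⟩, hgO, hg1⟩ := (Subgroup.bot_or_exists_ne_one (Cfsg.pCore p H)).resolve_left hO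
  obtain ⟨i, w, hw, rfl⟩ := hdec g hg
  have hwH : w ∈ H := le_sup_right (a := zpowers u) hw
  have hcomm : ∀ v : H, (v : G) ∈ Y → Commute (u ^ i * w) (v : G) := fun v hv =>
    congrArg Subtype.val (Subgroup.commute_of_normal_of_disjoint _ _ inferInstance inferInstance
      (disjoint_iff.2 hdisj) ⟨u ^ i * w, hg⟩ v hgO (mem_subgroupOf.2 hv)).eq
  have huw : Commute (u ^ i) w := by
    have h := hcomm ⟨w, hwH⟩ hw
    simp only [Commute, SemiconjBy] at h ⊢
    rw [← mul_assoc w (u ^ i) w] at h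
    exact mul_right_cancel h
  -- the element has `p`-power order, so its part in `Y` is trivial
  obtain ⟨k, hk⟩ := hOp ⟨⟨u ^ i * w, hg⟩, hgO⟩
  have hk' : (u ^ i * w) ^ p ^ k = 1 := congrArg (fun a : Cfsg.pCore p H => ((a : H) : G)) hk
  have hwk : w ^ p ^ (k + 1) = 1 := by
    have h := congrArg (· ^ p) hk'
    simp only [one_pow, ← pow_mul, ← pow_succ] at h
    rw [huw.mul_pow, pow_succ' p k, pow_mul (u ^ i), ← zpow_natCast (u ^ i) p, ← zpow_mul, mul_comm i,
      zpow_mul, zpow_natCast, hup, one_zpow, one_pow, one_mul] at h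
    rw [pow_succ' p k]
    exact h
  have hw1 : w = 1 := by
    have hdvd : orderOf w ∣ Nat.card Y := Y.orderOf_dvd_natCard hw
    obtain ⟨j, -, hj⟩ := (Nat.dvd_prime_pow hp.out).1 (orderOf_dvd_of_pow_eq_one hwk)
    rcases Nat.eq_zero_or_pos j with rfl | hj0
    · rwa [pow_zero, orderOf_eq_one_iff] at hj
    · exact absurd ((dvd_pow_self p hj0.ne').trans (hj ▸ hdvd)) hY
  subst hw1
  have hi : ¬ (p : ℤ) ∣ i := fun ⟨j, hj⟩ => hg1 (Subtype.ext (by
    show u ^ i * 1 = (1 : G)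
    rw [mul_one, hj, zpow_mul, zpow_natCast, hup, one_zpow]))
  -- `u` is a power of `u ^ i`
  obtain ⟨a, b, hab⟩ := ((Nat.prime_iff_prime_int.1 hp.out).coprime_iff_not_dvd.2 hi)
  have hu' : u = (u ^ i) ^ b := by
    rw [← zpow_mul, mul_comm]
    have h : u ^ (a * (p : ℤ) + b * i) = u := by rw [hab, zpow_one]
    rwa [zpow_add, mul_comm a, zpow_mul, zpow_natCast, hup, one_zpow, one_mul, eq_comm] at h
  have hc := hcomm ⟨y, le_sup_right (a := zpowers u) hy⟩ hy
  rw [mul_one] at hc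
  refine hne ?_
  conv_lhs => rw [hu']
  conv_rhs => rw [hu']
  exact (hc.zpow_left b).eq

end CfsgLib.TensorSquareThree
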