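import Cfsg.Agent.TensorSquareThree.Moves
import Cfsg.Agent.OrthTwelveTensor.Generation

/-!
# An overgroup moving a singular slice to a slice contains `Ω`
-/

set_option autoImplicit false
set_option linter.unusedSectionVars false

namespace CfsgLib.TensorSquareThree

open Matrix Module CfsgLib.Spinor CfsgLib.OrthMax CfsgLib.TensorOrth
open CfsgLib.OrthTwelveTensor (omega_le_of_seed_wide omega_le_of_right_seed_wide)
open CfsgLib.TensorMax (Idx ten ten_add_left ten_add_right ten_smul_left ten_smul_right ten_eq_zero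
  ten_inj_left ten_inj_right)
open CfsgLib.TensorSlice (ASet IsOrth)

variable {F : Type*} [Field F] [Fintype F] {Q : QuadraticForm F (Idx 3 3 → F)}
  {B₁ B₂ : LinearMap.BilinForm F (Fin 3 → F)} {J z : Isom Q} {M : Subgroup (Isom Q)}

namespace Sq

variable (hS' : Sq Q B₁ B₂ J z)
include hS'

/-- A square of a torus element for a hyperbolic pair. -/
theorem exists_torus_sq {c d : Fin 3 → F} (hc : B₂ c c = 0) (hd : B₂ d d = 0) (hdc : B₂ d c = 1) {ν : F}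
    (hν : ν ≠ 0) : ∃ T : isoG B₂, ((T * T).1 : Matrix (Fin 3) (Fin 3) F) *ᵥ c = (ν * ν) • c ∧
      ∀ x, B₂ x c = 0 → B₂ x d = 0 → ((T * T).1 : Matrix (Fin 3) (Fin 3) F) *ᵥ x = x := by
  have hs := hS'.aset
  have hcd : B₂ c d = 1 := by rw [hs.symm₂, hdc]
  have e₁ : B₂ (c - d) (c - d) = -2 := by simp [hc, hd, hdc, hcd]; norm_num
  have e₂ : B₂ (c - ν • d) (c - ν • d) = -(2 * ν) := by simp [hc, hd, hdc, hcd]; ring
  have h₁ : B₂ (c - d) (c - d) ≠ 0 := by rw [e₁]; exact neg_ne_zero.2 hs.two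
  have h₂ : B₂ (c - ν • d) (c - ν • d) ≠ 0 := by rw [e₂]; exact neg_ne_zero.2 (mul_ne_zero hs.two hν)
  set A := ((hs.rR (c - d)).1 : Matrix (Fin 3) (Fin 3) F)
  set B := ((hs.rR (c - ν • d)).1 : Matrix (Fin 3) (Fin 3) F)
  refine ⟨hs.rR (c - d) * hs.rR (c - ν • d), ?_, fun x hxc hxd => ?_⟩
  · show ((A * B) * (A * B)) *ᵥ c = _
    have hB : B *ᵥ c = ν • d := by
      rw [hs.rR_apply h₂, e₂, map_sub, map_smul, hc, hcd, smul_eq_mul, mul_one, zero_sub,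
        show 2 * -ν / -(2 * ν) = (1 : F) by rw [mul_neg, div_self (neg_ne_zero.2 (mul_ne_zero hs.two hν))]]
      module
    have hA : A *ᵥ d = c := by
      rw [hs.rR_apply h₁, e₁, map_sub, hdc, hd, sub_zero, mul_one,
        show (2 : F) / -2 = -1 by rw [div_neg, div_self hs.two]]
      module
    simp only [← mulVec_mulVec, hB, hA, mulVec_smul, smul_smul]
  · show ((A * B) * (A * B)) *ᵥ x = _
    have hA : A *ᵥ x = x := hs.rR_fix h₁ (by simp [hxc, hxd])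
    have hB : B *ᵥ x = x := hs.rR_fix h₂ (by simp [hxc, hxd])
    simp only [← mulVec_mulVec, hB, hA]

/-- The pair of reflections in one vector is a commutator with the flip. -/
theorem self_pair_omega (e : Fin 3 → F) : hS'.L e * hS'.R e ∈ Cfsg.Omega F ⇑Q := by
  have h : J * hS'.P e * J⁻¹ * (hS'.P e)⁻¹ ∈ Cfsg.Omega F ⇑Q :=
    Subgroup.commutator_mem_commutator (Subgroup.mem_top J) (Subgroup.mem_top _)
  rwa [hS'.J_inv, inv_eq_of_mul_eq_one_right (hS'.P_sq e), ← hS'.Lam_eq, hS'.Lam_mul_P] at h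

end Sq

/-- Natural multiples of a root element. -/
theorem rootMem_nsmul {u w : Idx 3 3 → F} (hu : Q u = 0) (huw : QuadraticMap.polar (⇑Q) u w = 0)
    (h : RootMem M u w) (n : ℕ) : RootMem M u ((n : F) • w) := by
  induction n with
  | zero => rw [Nat.cast_zero, zero_smul]; exact RootMem.zero
  | succ n ih =>
    rw [Nat.cast_succ, add_smul, one_smul]
    exact RootMem.add hu (by rw [QuadraticMap.polar_smul_right, huw, smul_zero]) huw ih h

namespace Sq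

variable (hS' : Sq Q B₁ B₂ J z)
include hS'

/-- The context of the central step. -/
theorem ctx (hM : ∀ g ∈ Cfsg.Omega F ⇑Q, g ∈ Kr Q → g ∈ M) : Ctx Q B₁ B₂ 1 M := by
  have h3 : Nat.card F ≠ 3 := by rw [Nat.card_eq_fintype_card]; have := hS'.five; omega
  exact ⟨hS'.aset.tset, by norm_num, le_rfl, Or.inr ⟨le_rfl, Or.inl h3, hS'.aset.two⟩, Or.inr (Or.inl h3), hM⟩

/-- An element outside `Kr` mapping a singular slice to a slice gives `Ω`. -/
theorem omega_le_of_slice_three (hM : ∀ g ∈ Cfsg.Omega F ⇑Q, g ∈ Kr Q → g ∈ M) {g : Isom Q} (hgM : g ∈ M)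
    (hgK : g ∉ Kr Q) {c c' : Fin 3 → F} (hc0 : c ≠ 0) (hc : B₂ c c = 0) (hc'0 : c' ≠ 0) (hc' : B₂ c' c' = 0)
    (hg : ∀ x, ∃ x', mat Q g *ᵥ ten x c = ten x' c') : Cfsg.Omega F ⇑Q ≤ M := by
  have hX := hS'.ctx hM
  have hs := hS'.aset
  have hS := hX.tset
  have h₁ := hS.f₁
  have h₂ := hS.f₂
  have ha0 : 0 < 3 := by norm_num
  have hb : 0 < 3 := by norm_num
  have h2 := hs.two
  have hT := hS.tens
  have hL := hS.lifts hX.card_ok hX.mem
  have hcard : 5 ≤ Fintype.card (Idx 3 3) := by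
    rw [Fintype.card_prod, Fintype.card_fin]
    norm_num
  have hW₁ : Wide B₁ := h₁.noPlane_wide le_rfl
  have hW₂ : Wide B₂ := h₂.noPlane_wide le_rfl
  have hfinish₁ : ∀ {γ : Fin 3 → F} {c h : Fin 3 → F}, Seed M tenB B₁ B₂ γ c h → Cfsg.Omega F ⇑Q ≤ M :=
    fun h => omega_le_of_seed_wide hT hL h₁ h₂ hS.nondeg hcard le_rfl le_rfl hW₁ hW₂ h
  have hfinish₂ : ∀ {γ v : Fin 3 → F} {c : Fin 3 → F}, Seed M tenB.flip B₂ B₁ c γ v → Cfsg.Omega F ⇑Q ≤ M :=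
    fun h => omega_le_of_right_seed_wide hT hL h₁ h₂ hS.nondeg hcard le_rfl le_rfl hW₁ hW₂ h
  -- a radical element
  obtain ⟨d, hd, hdc⟩ := h₂.exists_partner hc0 hc
  have hcd : B₂ c d = 1 := by rw [hs.symm₂, hdc]
  obtain ⟨T, hTm, s, hs0, hTc⟩ :=
    h₂.exists_move (Or.inl le_rfl) hc'0 hc0 hc' hc
  obtain ⟨e', he', he'v⟩ := hX.right hTm
  have heK : e' ∈ Kr Q := hS.mem_Kr_of_ten ha0 hb LinearMap.id (Matrix.mulVecLin (T : Matrix (Fin 3) (Fin 3) F))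
    fun x y => by rw [he'v]; rfl
  have hg₁ : ∀ x, ∃ x', mat Q (e' * g) *ᵥ ten x c = ten x' c := fun x => by
    obtain ⟨x', hx'⟩ := hg x
    exact ⟨s • x', by rw [mat_mul, ← mulVec_mulVec, hx', he'v, hTc, ten_smul_right, ← ten_smul_left]⟩
  set S₀ : (Fin 3 → F) →ₗ[F] (Fin 3 → F) :=
    (evB B₂ d).comp ((Matrix.mulVecLin (mat Q (e' * g))).comp (tenB.flip c)) with hS₀
  have hS₀v : ∀ x, mat Q (e' * g) *ᵥ ten x c = ten (S₀ x) c := fun x => by
    obtain ⟨x', hx'⟩ := hg₁ x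
    rw [hx', hS₀]
    simp [hx', hcd]
  have hinj : Function.Injective S₀ := fun x y hxy =>
    ten_inj_left hc0 (mulVec_injective (e' * g) (by
      show mat Q (e' * g) *ᵥ _ = mat Q (e' * g) *ᵥ _
      rw [hS₀v, hS₀v, hxy]))
  obtain ⟨r, hr, hrR, hrK⟩ := hX.exists_rad_outside (M.mul_mem he' hgM)
    (fun h => hgK (by simpa using (Kr Q).mul_mem ((Kr Q).inv_mem heK) h)) hc0 hc
    (S := LinearEquiv.ofInjectiveEndo S₀ hinj) (fun x => by rw [hS₀v]; rfl)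
  by_cases hcen : M ⊓ Cen Q B₂ c ≤ Kr Q
  swap
  · obtain ⟨γ, v, hv⟩ := hX.seed_of_cen hc0 hc hcen
    exact hfinish₂ hv
  -- the left frame is the right one
  obtain ⟨κ, hκ, hκB⟩ := hS'.prop
  obtain ⟨e, hec, hed, hee₂⟩ := h₂.exists_nonsingular_pair h2 rfl hc hd hdc le_rfl
  obtain ⟨γ, δ, hγ0, hγ, hδ, hδγ, heγ, heδ⟩ : ∃ γ δ : Fin 3 → F, γ ≠ 0 ∧ B₁ γ γ = 0 ∧ B₁ δ δ = 0 ∧
      B₁ δ γ = 1 ∧ B₁ e γ = 0 ∧ B₁ e δ = 0 :=
    ⟨c, κ⁻¹ • d, hc0, by rw [hκB, hc, mul_zero], by simp [hκB, hd], by simp [hκB, hdc, hκ],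
      by rw [hκB, hec, mul_zero], by simp [hκB, hed]⟩
  have hγδ : B₁ γ δ = 1 := by rw [hs.symm₁, hδγ]
  have hee : B₁ e e ≠ 0 := by rw [hκB]; exact mul_ne_zero hκ hee₂
  have he0 : e ≠ 0 := fun h => hee (by simp [h])
  have hspan : ∀ x, B₁ x γ = 0 → B₁ x δ = 0 → ∃ t : F, t • e = x := by
    intro x hxγ hxδ
    have hle : Submodule.span F {e} ≤ cperp B₁ γ ⊓ cperp B₁ δ :=
      (Submodule.span_singleton_le_iff_mem _ _).2 ⟨heγ, heδ⟩
    have hlt : cperp B₁ γ ⊓ cperp B₁ δ < cperp B₁ γ := lt_of_le_of_ne inf_le_left fun h => by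
      have hm : γ ∈ cperp B₁ γ ⊓ cperp B₁ δ := by rw [h]; exact hγ
      exact one_ne_zero (hγδ.symm.trans (hm.2 : B₁ γ δ = 0))
    have h3 := Submodule.finrank_lt_finrank_of_lt hlt
    have h4 := h₁.finrank_cperp hγ0
    have heq := Submodule.eq_of_le_of_finrank_le hle (by rw [finrank_span_singleton he0]; omega)
    exact Submodule.mem_span_singleton.1 (heq.symm ▸ (⟨hxγ, hxδ⟩ : x ∈ cperp B₁ γ ⊓ cperp B₁ δ))
  -- a translation fixed by the left root elements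
  set p := ringChar F
  have : Fact p.Prime := ⟨CharP.char_is_prime F p⟩
  set U := pairGrp M (rootsAt B₁ 1 h₁ hγ γ) (⊥ : Subgroup (GL (Fin 3) F)) with hUdef
  have hU : IsPGroup p U := pairGrp_isPGroup (rootsAt_isPGroup h₁ ha0 hγ γ) IsPGroup.of_bot
  have hinv : ∀ g ∈ U, ∀ r ∈ M ⊓ Rad Q B₂ c, g * r * g⁻¹ ∈ M ⊓ Rad Q B₂ c := by
    rintro g ⟨hg, E, -, E', hE', hgv⟩ r ⟨hr, hrc⟩
    refine ⟨M.mul_mem (M.mul_mem hg hr) (M.inv_mem hg), hS.conj_mem_rad g (glEquiv E) (fun x => ?_) hrc⟩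
    rw [hgv, (Subgroup.mem_bot.1 hE' : E' = 1), Units.val_one, one_mulVec, glEquiv_apply]
  obtain ⟨m, ⟨hmM, hmR⟩, hmK, hfix⟩ := hS.exists_fixed ha0 hb hc0 hc hdc inf_le_right hU hinv
    (fun hle => hrK (hle ⟨hr, hrR⟩))
  let X : (Fin 3 → F) → (Fin 3 → F) → (Fin 3 → F) := fun u x => xPart B₂ 1 d m (ten x u)
  have hmv : ∀ u, B₂ u c = 0 → ∀ x, mat Q m *ᵥ ten x u = ten x u + ten (X u x) c := fun u hu x =>
    hS.rad_mulVec hdc hmR (by simp [hu])
  have hXc : ∀ x, X c x = 0 := fun x => by simp [X, xPart, hmR.1]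
  have hfm : ∀ u, B₂ u c = 0 → FixMod B₁ 1 γ ((xPart B₂ 1 d m).comp (tenB.flip u)) := by
    intro u hu z k hz hk
    obtain ⟨e₁, he₁, he₁v⟩ := hX.pair_left hγ hz hk (⊥ : Subgroup (GL (Fin 3) F))
    obtain ⟨T, ν, hTc', hTi, hν, hrel⟩ := hfix e₁ he₁
    have hTu : B₂ (T u) c = 0 := by rw [← hTc', hTi, hu]
    obtain ⟨μ, -, hμ⟩ := split_ten ha0 (A := fun x => esie B₁ 1 γ z k x) (y := T u - u)
      (D := fun x => esie B₁ 1 γ z k (X u x) - X u (esie B₁ 1 γ z k x))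
      ⟨δ, fun h => by
        have := h₁.esie_isom hγ hz hk δ γ
        rw [h, map_zero, LinearMap.zero_apply, hδγ] at this
        exact zero_ne_one this⟩ hc0 fun x => by
        have h1 := hrel (ten x u)
        rw [hmv u hu, mulVec_add, he₁v, he₁v, hmv u hu, mulVec_add, hν, hν, hTc'] at h1
        rw [TensorOrth.ten_sub_right', TensorOrth.ten_sub_left']
        linear_combination (norm := module) -h1
    exact ⟨μ, hμ⟩
  -- its coefficients
  let φl : (Fin 3 → F) →ₗ[F] F := (B₁.flip δ).comp ((xPart B₂ 1 d m).comp (tenB γ))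
  let φσ : (Fin 3 → F) →ₗ[F] F := (B₁.flip δ).comp ((xPart B₂ 1 d m).comp (tenB δ))
  let φν : (Fin 3 → F) →ₗ[F] F := (B₁ e e)⁻¹ • (B₁.flip e).comp ((xPart B₂ 1 d m).comp (tenB δ))
  have hXu : ∀ u, B₂ u c = 0 → ∀ x, X u x = φl u • x + (φσ u * B₁ x γ) • γ
      + φν u • (B₁ x γ • e - B₁ x e • γ) := by
    intro u hu
    obtain ⟨l, v, σ, hvγ, hvδ, hA⟩ := h₁.shape hX.shapeOK hγ hδ hδγ (hfm u hu)
    have hA' : ∀ x, X u x = l • x + (σ * B₁ x γ) • γ + (B₁ x γ • v - B₁ x v • γ) := hA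
    obtain ⟨t, rfl⟩ := hspan v hvγ hvδ
    have el : φl u = l := by
      show B₁ (X u γ) δ = l
      rw [hA']
      simp [hγ, hγδ, hs.symm₁ γ e, heγ]
    have eσ : φσ u = σ := by
      show B₁ (X u δ) δ = σ
      rw [hA']
      simp [hδ, hδγ, hγδ, heδ, hs.symm₁ δ e]
    have eν : φν u = t := by
      show (B₁ e e)⁻¹ * B₁ (X u δ) e = t
      rw [hA']
      simp [hδγ, hs.symm₁ δ e, hs.symm₁ γ e, heδ, heγ]
      field_simp
    intro x
    rw [hA', el, eσ, eν]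
    simp only [map_smul, smul_eq_mul]
    module
  -- removing the scalar
  obtain ⟨zl, hzl⟩ := h₂.exists_rep φl
  have hrepc : ∀ φ : (Fin 3 → F) →ₗ[F] F, ∀ z, (∀ u, B₂ u z = φ u) → φ c = 0 → B₂ z c = 0 :=
    fun φ z hz h => by rw [hs.symm₂, hz, h]
  have hzlc : B₂ zl c = 0 := hrepc _ _ hzl (show B₁ (X c γ) δ = 0 by rw [hXc]; simp)
  obtain ⟨q, hq, hqK, hqL, -⟩ := hX.exists_scalar_line hc hzlc
  set m₀ := q * m with hm₀
  have hm₀M : m₀ ∈ M := M.mul_mem hq hmM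
  have hm₀K : m₀ ∉ Kr Q := fun h => hmK (by
    have := (Kr Q).mul_mem ((Kr Q).inv_mem hqK) h
    rwa [hm₀, inv_mul_cancel_left] at this)
  have hm₀c : ∀ x, mat Q m₀ *ᵥ ten x c = ten x c := fun x => by
    rw [hm₀, mat_mul, ← mulVec_mulVec, hmR.1, hqL.1]
  have hm₀v : ∀ u, B₂ u c = 0 → ∀ x, mat Q m₀ *ᵥ ten x u
      = ten x u + ten ((φσ u * B₁ x γ) • γ + φν u • (B₁ x γ • e - B₁ x e • γ)) c := fun u hu x => by
    rw [hm₀, mat_mul, ← mulVec_mulVec, hmv u hu, hXu u hu, mulVec_add, hqL.1, hqL.ten_perp x hu, hzl]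
    simp only [one_smul, LinearMap.neg_apply, LinearMap.id_apply, ten_add_left, ten_smul_left,
      TensorOrth.ten_neg_left']
    module
  have hperp : ∀ φ : (Fin 3 → F) →ₗ[F] F, φ c = 0 →
      ∃ h, B₂ h c = 0 ∧ B₂ h d = 0 ∧ ∀ u, B₂ u c = 0 → B₂ u h = φ u := by
    intro φ hφ
    obtain ⟨z, hz⟩ := h₂.exists_rep φ
    refine ⟨z - B₂ z d • c, ?_, ?_, fun u hu => ?_⟩
    · simp [hrepc φ z hz hφ, hc]
    · simp [hcd]
    · simp [hz, hu]
  obtain ⟨hσ, hσc, hσd, hσu⟩ := hperp φσ (show B₁ (X c δ) δ = 0 by rw [hXc]; simp)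
  obtain ⟨hν, hνc, hνd, hνu⟩ := hperp φν (show (B₁ e e)⁻¹ * B₁ (X c δ) e = 0 by rw [hXc]; simp)
  -- the right vector `e` spans the common orthogonal of `c` and `d`
  have hspan₂ : ∀ h, B₂ h c = 0 → B₂ h d = 0 → ∃ t : F, t • e = h := by
    intro h hhc hhd
    have he0' : e ≠ 0 := he0
    have hle : Submodule.span F {e} ≤ cperp B₂ c ⊓ cperp B₂ d :=
      (Submodule.span_singleton_le_iff_mem _ _).2 ⟨hec, hed⟩
    have hlt : cperp B₂ c ⊓ cperp B₂ d < cperp B₂ c := lt_of_le_of_ne inf_le_left fun h' => by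
      have hm : c ∈ cperp B₂ c ⊓ cperp B₂ d := by rw [h']; exact hc
      exact one_ne_zero (hcd.symm.trans (hm.2 : B₂ c d = 0))
    have h3 := Submodule.finrank_lt_finrank_of_lt hlt
    have h4 := h₂.finrank_cperp hc0
    have heq := Submodule.eq_of_le_of_finrank_le hle (by rw [finrank_span_singleton he0]; omega)
    exact Submodule.mem_span_singleton.1 (heq.symm ▸ (⟨hhc, hhd⟩ : h ∈ cperp B₂ c ⊓ cperp B₂ d))
  -- the involution separates the two kinds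
  set w := hS'.L e * hS'.R e with hw
  have hwM : w ∈ M := hM w (hS'.self_pair_omega e) (hS'.pair_mem e e)
  have hwi : w⁻¹ = w := inv_eq_of_mul_eq_one_right (hS'.pair_sq e e)
  set S : (Fin 3 → F) → (Fin 3 → F) := fun x => ((hs.rR e).1 : Matrix (Fin 3) (Fin 3) F) *ᵥ x with hSdef
  have hwv : ∀ x y, mat Q w *ᵥ ten x y = ten (S x) (S y) := fun x y => by
    rw [hw, hS'.mul_ten, hS'.R_ten, hS'.L_ten]
  have hSS : ∀ x, S (S x) = x := fun x => by
    show _ *ᵥ (_ *ᵥ x) = x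
    rw [mulVec_mulVec, ← Units.val_mul, ← Subgroup.coe_mul, hs.rR_sq, OneMemClass.coe_one, Units.val_one, one_mulVec]
  have hSf : ∀ x, B₂ x e = 0 → S x = x := fun x hx => hs.rR_fix hee₂ hx
  have hSe : S e = -e := hs.rR_self hee₂
  have hSγ : S γ = γ := hSf γ ((hS'.zero_iff γ e).1 (by rw [hs.symm₁, heγ]))
  have hSδ : S δ = δ := hSf δ ((hS'.zero_iff δ e).1 (by rw [hs.symm₁, heδ]))
  have hSc : S c = c := hSf c (by rw [hs.symm₂, hec])
  have hSd : S d = d := hSf d (by rw [hs.symm₂, hed])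
  have hSB₂ : ∀ x y, B₂ (S x) (S y) = B₂ x y := fun x y => (hs.rR e).2 x y
  have hSB : ∀ x y, B₁ (S x) (S y) = B₁ x y := fun x y => by rw [hκB, hκB, hSB₂]
  have hBγ : ∀ x, B₁ (S x) γ = B₁ x γ := fun x => by
    conv_lhs => rw [← hSγ]
    rw [hSB]
  have hBe : ∀ x, B₁ (S x) e = -B₁ x e := fun x => by
    have h := hSB x e
    rw [hSe, map_neg] at h
    rw [← h, neg_neg]
  have hneg : ∀ h, B₂ h c = 0 → B₂ h d = 0 → S h = -h := fun h hhc hhd => by
    obtain ⟨t, rfl⟩ := hspan₂ h hhc hhd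
    show _ *ᵥ (t • e) = _
    rw [mulVec_smul, show _ *ᵥ e = -e from hSe, smul_neg]
  have hflipu : ∀ h, B₂ h c = 0 → B₂ h d = 0 → ∀ u, B₂ (S u) h = -B₂ u h := fun h hhc hhd u => by
    have h' := hSB₂ u h
    rw [hneg h hhc hhd, map_neg] at h'
    rw [← h', neg_neg]
  set m₁ := w * m₀⁻¹ * w⁻¹ with hm₁
  have hm₁M : m₁ ∈ M := M.mul_mem (M.mul_mem hwM (M.inv_mem hm₀M)) (M.inv_mem hwM)
  have hm₀i : ∀ u, B₂ u c = 0 → ∀ x, mat Q m₀⁻¹ *ᵥ ten x u
      = ten x u - ten ((φσ u * B₁ x γ) • γ + φν u • (B₁ x γ • e - B₁ x e • γ)) c := fun u hu x =>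
    mulVec_injective m₀ (by
      show mat Q m₀ *ᵥ _ = mat Q m₀ *ᵥ _
      rw [mulVec_cancel', mulVec_sub, hm₀c, hm₀v u hu, add_sub_cancel_right])
  have hm₀ic : ∀ x, mat Q m₀⁻¹ *ᵥ ten x c = ten x c := fun x => mulVec_injective m₀ (by
    show mat Q m₀ *ᵥ _ = mat Q m₀ *ᵥ _
    rw [mulVec_cancel', hm₀c])
  have hm₁c : ∀ x, mat Q m₁ *ᵥ ten x c = ten x c := fun x => by
    rw [hm₁, hwi, hS'.mul_ten, hS'.mul_ten, hwv, hSc, hm₀ic, hwv, hSS, hSc]
  have hm₁v : ∀ u, B₂ u c = 0 → ∀ x, mat Q m₁ *ᵥ ten x u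
      = ten x u + ten ((φσ u * B₁ x γ) • γ - φν u • (B₁ x γ • e - B₁ x e • γ)) c := fun u hu x => by
    have hSu : B₂ (S u) c = 0 := by rw [← hSc, hSB₂, hu]
    rw [hm₁, hwi, hS'.mul_ten, hS'.mul_ten, hwv, hm₀i _ hSu, mulVec_sub, hwv, hwv, hSS, hSS, hSc, sub_eq_add_neg,
      ← TensorOrth.ten_neg_left', ← hσu _ hSu, ← hνu _ hSu, hflipu hσ hσc hσd, hflipu hν hνc hνd, hσu _ hu,
      hνu _ hu, hBγ, hBe]
    congr 2
    have hlin : ∀ p q : F, S (p • γ + q • e) = p • γ - q • e := fun p q => by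
      show _ *ᵥ _ = _
      rw [mulVec_add, mulVec_smul, mulVec_smul, show _ *ᵥ γ = γ from hSγ, show _ *ᵥ e = -e from hSe, smul_neg,
        sub_eq_add_neg]
    rw [show (-φσ u * B₁ x γ) • γ + -φν u • (B₁ x γ • e - -B₁ x e • γ)
        = (-φσ u * B₁ x γ - φν u * B₁ x e) • γ + (-φν u * B₁ x γ) • e by module, hlin]
    module
  have hne : ∀ {h : Fin 3 → F}, B₂ h d = 0 → h ≠ 0 → ∀ s : F, s • c ≠ h := fun {h} hhd hh s hsc => by
    have h1 := congrArg (fun w => B₂ w d) hsc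
    simp [hcd, hhd] at h1
    exact hh (by rw [← hsc, h1, zero_smul])
  by_cases hσ0 : hσ = 0
  · -- only the alternating part
    have hm₀L : RadLine Q B₂ c hν (altOp B₁ γ e) m₀ := RadLine.mk' hm₀c fun x u hu => by
      rw [hm₀v u hu, ← hσu u hu, ← hνu u hu, hσ0]
      simp [ten_smul_left]
    have hν0 : hν ≠ 0 := by
      intro h0
      refine hm₀K (hcen ⟨hm₀M, RadLine.mem_cen (h := hν) ⟨hm₀c, fun v hv => ?_⟩⟩)
      rw [hm₀L.2 v hv, h0, show evB B₂ (0 : Fin 3 → F) v = 0 from funext fun i => by simp [evB_apply],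
        map_zero, LinearMap.zero_apply]
    obtain ⟨y, hy⟩ := h₂.exists_one hν0
    obtain ⟨μ, hμ⟩ := hX.line_adjoint hc0 hc hd hdc (g := y - B₂ y c • d - B₂ y d • c)
      (h := hν) (by simp [hdc, hc]) (by simp [hd, hcd])
      (by simp [hy, hs.symm₂ d hν, hs.symm₂ c hν, hνd, hνc]) hcen hm₀M hm₀L
    have e1 := hμ γ δ
    simp [hγ, hγδ, hδγ, hs.symm₁ γ e, hs.symm₁ δ e, heγ, heδ] at e1
    have e2 := hμ e δ
    simp [hδγ, hs.symm₁ δ e, heγ, heδ, hγδ, ← e1] at e2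
    exact absurd e2 fun h => hee
      ((mul_eq_zero.1 (show (2 : F) * B₁ e e = 0 by linear_combination -h)).resolve_left h2)
  -- a translation by a line
  have hL₁ : RadLine Q B₂ c hσ (lineOp B₁ γ (2 : F)) (m₀ * m₁) := RadLine.mk'
    (fun x => by rw [hS'.mul_ten, hm₁c, hm₀c]) fun x u hu => by
    rw [hS'.mul_ten, hm₁v u hu, mulVec_add, hm₀c, hm₀v u hu, hσu u hu, lineOp_apply]
    simp only [ten_add_left, ten_smul_left, TensorOrth.ten_sub_left']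
    module
  obtain ⟨v, hvγ, hvδ, hroot⟩ := hX.rootMem_of_radLine hc0 hc hd hdc hσc hσd hcen hγ hδ hδγ
    (M.mul_mem hm₀M hm₁M) hL₁
  obtain ⟨t, rfl⟩ := hspan v hvγ hvδ
  have hu : Q (ten γ c) = 0 := hS.quad _ _ (Or.inl hγ)
  by_cases ht : t = 0
  · refine hfinish₁ (γ := γ) (c := c) (h := (-2 : F) • hσ) ⟨hγ0, hγ, hc0, hc, by simp [hσc], ?_, ?_⟩
    · refine hne (by simp [hσd]) fun h => hσ0 ?_
      exact (smul_eq_zero.1 h).resolve_left (neg_ne_zero.2 h2)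
    · rw [ht, zero_smul, TensorOrth.ten_zero_left, add_zero, ten_smul_left] at hroot
      rwa [tenB_apply, tenB_apply, ten_smul_right]
  set pa := ten ((-2 : F) • γ) hσ with hpa
  set pb := ten (t • e) c with hpb
  have hperp' : ∀ r s : F, QuadraticMap.polar (⇑Q) (ten γ c) (r • pa + s • pb) = 0 := fun r s => by
    simp [hpa, hpb, QuadraticMap.polar_add_right, QuadraticMap.polar_smul_right, hS.polar, hγ, hc]
  have htorus : ∀ ν μ : F, ν ≠ 0 → μ ≠ 0 →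
      RootMem M (ten γ c) ((ν * ν * (ν * ν) * (μ * μ)) • pa + (ν * ν * (μ * μ) * (μ * μ)) • pb) := by
    intro ν μ hν hμ
    have hγ₂ : B₂ γ γ = 0 := (hS'.zero_iff γ γ).1 hγ
    have hδ₂ : B₂ (κ • δ) (κ • δ) = 0 := by simp [(hS'.zero_iff δ δ).1 hδ]
    have hδγ₂ : B₂ (κ • δ) γ = 1 := by rw [map_smul, LinearMap.smul_apply, smul_eq_mul, ← hκB, hδγ]
    obtain ⟨T, hTc, hTf⟩ := hS'.exists_torus_sq hγ₂ hδ₂ hδγ₂ hν
    obtain ⟨T', hT'c, hT'f⟩ := hS'.exists_torus_sq hc hd hdc hμ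
    set k := hS'.kL (T * T) * hS'.kR (T' * T') with hk
    have hkM : k ∈ M := hM k (by
      rw [hk, map_mul, map_mul]
      exact (Cfsg.Omega F ⇑Q).mul_mem (sq_mem_omega h2 hS.nondeg _) (sq_mem_omega h2 hS.nondeg _))
      ((Kr Q).mul_mem (hS'.kL_mem _) (hS'.kR_mem _))
    have hkv : ∀ x y, mat Q k *ᵥ ten x y = ten (((T * T).1 : Matrix (Fin 3) (Fin 3) F) *ᵥ x)
        (((T' * T').1 : Matrix (Fin 3) (Fin 3) F) *ᵥ y) := fun x y => by
      rw [hk, hS'.mul_ten, hS'.kR_ten, hS'.kL_ten]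
    have hTe : ((T * T).1 : Matrix (Fin 3) (Fin 3) F) *ᵥ e = e :=
      hTf e ((hS'.zero_iff e γ).1 heγ) (by simp [(hS'.zero_iff e δ).1 heδ])
    have h := hroot.conj hkM
    rw [mulVec_add, hpa, hpb, hkv, hkv, hkv, hTc, hT'c, hT'f hσ hσc hσd, ten_smul_left, ten_smul_right, smul_smul,
      rootMem_smul_left, mulVec_smul, hTc, mulVec_smul, hTe] at h
    convert h using 1
    simp only [hpa, hpb, ten_smul_left, ten_smul_right]
    module
  suffices hb : ∃ r : F, r ≠ 0 ∧ RootMem M (ten γ c) (r • pb) by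
    obtain ⟨r, hr, hrM⟩ := hb
    refine hfinish₂ (γ := γ) (v := (r * t) • e) (c := c) ⟨hc0, hc, hγ0, hγ, by simp [heγ], fun s hs' => ?_, ?_⟩
    · have h1 := congrArg (fun w => B₁ w δ) hs'
      simp [hγδ, heδ] at h1
      rw [h1, zero_smul, eq_comm, smul_eq_zero, mul_eq_zero] at hs'
      exact (hs'.resolve_right he0).elim hr ht
    · show RootMem M (ten γ c) (ten ((r * t) • e) c)
      rwa [hpb, ← ten_smul_left, smul_smul] at hrM
  have hbase : RootMem M (ten γ c) ((1 : F) • pa + (1 : F) • pb) := by rwa [one_smul, one_smul]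
  by_cases h3 : (3 : F) = 0
  · obtain ⟨ν, hν, hν2⟩ : ∃ ν : F, ν ≠ 0 ∧ ν * ν ≠ 1 := by
      classical
      by_contra! hcon
      have hsub : (Finset.univ : Finset F) ⊆ {0, 1, -1} := fun x _ => by
        by_cases hx : x = 0
        · simp [hx]
        · rcases mul_self_eq_one_iff.1 (hcon x hx) with h | h <;> simp [h]
      have := (Finset.card_le_card hsub).trans Finset.card_le_three
      rw [Finset.card_univ] at this
      have := hS'.five
      omega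
    set μ := (ν * ν)⁻¹ with hμdef
    have hμ : μ ≠ 0 := inv_ne_zero (mul_ne_zero hν hν)
    have h := RootMem.add hu (hperp' _ _) (by rw [QuadraticMap.polar_neg_right, hperp', neg_zero])
      (htorus ν μ hν hμ) (RootMem.neg hu (hperp' _ _) hbase)
    have ea : ν * ν * (ν * ν) * (μ * μ) = 1 := by rw [hμdef]; field_simp
    refine ⟨μ * μ * μ - 1, fun h0 => hν2 ?_, ?_⟩
    · have h1 : (μ - 1) * ((μ - 1) * (μ - 1)) = 0 := by linear_combination h0 - (μ * μ - μ) * h3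
      have h2' : μ = 1 := sub_eq_zero.1 ((mul_eq_zero.1 h1).elim id fun h' => (mul_eq_zero.1 h').elim id id)
      rw [hμdef, inv_eq_one] at h2'
      exact h2'
    · convert h using 1
      rw [ea, show ν * ν * (μ * μ) * (μ * μ) = μ * μ * μ by rw [hμdef]; field_simp]
      module
  · have h := RootMem.add hu (by rw [QuadraticMap.polar_smul_right, hperp', smul_zero])
      (by rw [QuadraticMap.polar_neg_right, hperp', neg_zero]) (rootMem_nsmul hu (hperp' _ _) hbase 16)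
      (RootMem.neg hu (hperp' _ _) (htorus 2 1 h2 one_ne_zero))
    refine ⟨12, by rw [show (12 : F) = 2 * 2 * 3 by norm_num]; exact mul_ne_zero (mul_ne_zero h2 h2) h3, ?_⟩
    convert h using 1
    push_cast
    module

end Sq

end CfsgLib.TensorSquareThree
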