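import Cfsg.Agent.TensorSquareThree.EndGame
import Cfsg.Agent.TensorSquareThree.Coprime

/-!
# An element of an overgroup fixing an anisotropic slice lies in `Kr`
-/

set_option autoImplicit false
set_option linter.unusedSectionVars false

namespace CfsgLib.TensorSquareThree

open Matrix Module CfsgLib.Spinor CfsgLib.OrthMax CfsgLib.TensorOrth
open CfsgLib.TensorMax (Idx ten krG ten_add_left ten_add_right ten_smul_left ten_smul_right ten_eq_zero
  ten_inj_left ten_inj_right)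
open CfsgLib.TensorSlice (ASet IsOrth fixP ten_sub_left ten_zero_right)
open CfsgLib.TensorUnitary (ten_induction)

variable {F : Type*} [Field F] [Fintype F] {Q : QuadraticForm F (Idx 3 3 → F)}
  {B₁ B₂ : LinearMap.BilinForm F (Fin 3 → F)} {J z : Isom Q} {M : Subgroup (Isom Q)}

/-- A proper overgroup candidate of the stabiliser in `Ω`. -/
structure Over (hS : Sq Q B₁ B₂ J z) (M : Subgroup (Isom Q)) : Prop where
  mem : ∀ g ∈ Cfsg.Omega F ⇑Q, g ∈ hS.Nr → g ∈ M
  le : M ≤ Cfsg.Omega F ⇑Q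
  ne : ¬ Cfsg.Omega F ⇑Q ≤ M

namespace Over

variable {hS : Sq Q B₁ B₂ J z} (hM : Over hS M)
include hM

/-- The conjugate by the flip. -/
theorem flip : Over hS (M.comap (MulAut.conj J).toMonoidHom) where
  mem g hg hgN := by
    show J * g * J⁻¹ ∈ M
    exact hM.mem _ (omega_conj hg J) (hS.Nr.mul_mem (hS.Nr.mul_mem hS.J_mem hgN) (hS.Nr.inv_mem hS.J_mem))
  le g hg := by
    have h : J * g * J⁻¹ ∈ Cfsg.Omega F ⇑Q := hM.le hg
    have h' := omega_conj h J⁻¹
    rwa [inv_inv, show J⁻¹ * (J * g * J⁻¹) * J = g by group] at h'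
  ne hle := hM.ne fun g hg => by
    have h : J * (J⁻¹ * g * J⁻¹⁻¹) * J⁻¹ ∈ M := hle (omega_conj hg J⁻¹)
    rwa [show J * (J⁻¹ * g * J⁻¹⁻¹) * J⁻¹ = g by group] at h

theorem mem_kr {g : Isom Q} (hg : g ∈ Cfsg.Omega F ⇑Q) (hgK : g ∈ Kr Q) : g ∈ M :=
  hM.mem g hg (Or.inl hgK)

/-- No element outside `Kr` preserves a singular left slice. -/
theorem no_left_slice {m : Isom Q} (hm : m ∈ M) (hmK : m ∉ Kr Q) {γ : Fin 3 → F} (hγ0 : γ ≠ 0)
    (hγ : B₂ γ γ = 0) (hmap : ∀ w, ∃ w', mat Q m *ᵥ ten γ w = ten γ w') : False := by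
  refine hM.flip.ne (hS.omega_le_of_slice_three (fun g hg hgK => hM.flip.mem_kr hg hgK)
    (g := J * m * J) ?_ (fun h => hmK ?_) hγ0 hγ hγ0 hγ fun x => ?_)
  · show J * (J * m * J) * J⁻¹ ∈ M
    rwa [← mul_assoc, ← mul_assoc, hS.J_sq, one_mul, mul_inv_cancel_right]
  · have := hS.flip_conj_mem h
    rwa [show J * (J * m * J) * J = (J * J) * m * (J * J) by group, hS.J_sq, one_mul, mul_one] at this
  · obtain ⟨w', hw'⟩ := hmap x
    exact ⟨w', by rw [hS.mul_ten, hS.mul_ten, hS.flip, hw', hS.flip]⟩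

/-- An element fixing an anisotropic slice lies in `Kr`. -/
theorem fix_mem_kr {y : Isom Q} (hyM : y ∈ M) {h : Fin 3 → F} (hh : B₂ h h ≠ 0)
    (hyfix : ∀ x, mat Q y *ᵥ ten x h = ten x h) : y ∈ Kr Q := by
  classical
  by_contra hyK
  have hs := hS.aset
  have hX := hS.ctx fun g hg hgK => hM.mem_kr hg hgK
  have h₁ := hs.tset.f₁
  obtain ⟨γ, hγ0, hγ⟩ := hX.exists_iso_left
  obtain ⟨δ, hδ, hδγ⟩ := h₁.exists_partner hγ0 hγ
  obtain ⟨e, heγ, -, hee⟩ := h₁.exists_nonsingular_pair hs.two rfl hγ hδ hδγ le_rfl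
  let kk : F → F := fun s => -B₁ (s • e) (s • e) / 2
  have hze : ∀ s : F, B₁ (s • e) γ = 0 := fun s => by simp [heγ]
  have hkk : ∀ s, kk s * (1 + 1) + B₁ (s • e) (s • e) = 0 := fun s => by
    have := hs.two
    simp only [kk]; field_simp; ring
  let E : F → Isom Q := fun s => hs.tset.krIso (h₁.eGL hγ (hze s) (kk s)) 1
    (hs.tset.left_ok (h₁.fgrp_le (h₁.eGL_mem hγ (hze s) (hkk s))))
  have hE : ∀ s x w, mat Q (E s) *ᵥ ten x w = ten (esie B₁ 1 γ (s • e) (kk s) x) w := fun s x w => by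
    show ((krG (h₁.eGL hγ (hze s) (kk s), (1 : GL (Fin 3) F)) : GL (Idx 3 3) F) :
      Matrix (Idx 3 3) (Idx 3 3) F) *ᵥ ten x w = _
    rw [CfsgLib.TensorMax.krG_val, CfsgLib.TensorMax.kron_mulVec_ten, h₁.eGL_mulVec, Units.val_one, one_mulVec]
  let ψ : Multiplicative F →* Isom Q := MonoidHom.mk' (fun s => E s.toAdd) fun s t => hs.ext_ten fun x w => by
    rw [mat_mul, ← mulVec_mulVec, hE, hE, hE, h₁.esie_comp hγ (hze _) (hze _)]
    have hz : (s * t).toAdd • e = t.toAdd • e + s.toAdd • e := by rw [toAdd_mul, add_smul, add_comm]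
    have hk : kk (s * t).toAdd = kk t.toAdd + kk s.toAdd - 1 * B₁ (t.toAdd • e) (s.toAdd • e) := by
      simp only [kk, hz, map_add, LinearMap.add_apply, hs.symm₁ (s.toAdd • e) (t.toAdd • e)]
      have := hs.two
      field_simp
      ring
    rw [hz, hk]
  set U := ψ.range with hU
  have hUM : ∀ s, E s ∈ M := fun s => by
    obtain ⟨g, hg, hgv⟩ := hX.left (h₁.eGL_mem hγ (hze s) (hkk s))
    rwa [show E s = g from hs.ext_ten fun x w => by rw [hE, hgv, h₁.eGL_mulVec]]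
  set Y := M ⊓ fixP Q ![h] with hY
  have hconj : ∀ r ∈ U, ∀ x ∈ Y, r * x * r⁻¹ ∈ Y := by
    rintro _ ⟨u, rfl⟩ x hx
    refine ⟨M.mul_mem (M.mul_mem (hUM _) hx.1) (M.inv_mem (hUM _)), fun i w => ?_⟩
    fin_cases i
    show mat Q (ψ u * x * (ψ u)⁻¹) *ᵥ ten w h = ten w h
    rw [← map_inv, mat_mul, mat_mul, ← mulVec_mulVec, ← mulVec_mulVec,
      show mat Q (ψ u⁻¹) *ᵥ ten w h = ten (esie B₁ 1 γ (u⁻¹.toAdd • e) (kk u⁻¹.toAdd) w) h from hE _ _ _,
      show ∀ z, mat Q x *ᵥ ten z h = ten z h from fun z => hx.2 0 z, ← show mat Q (ψ u⁻¹) *ᵥ ten w h = _ from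
        hE _ _ _, mulVec_mulVec, ← mat_mul, ← map_mul, mul_inv_cancel, map_one, mat_one, one_mulVec]
  have hUY : U ≤ Subgroup.normalizer (Y : Set (Isom Q)) := fun r hr => by
    rw [Subgroup.mem_normalizer_iff]
    refine fun x => ⟨hconj r hr x, fun h' => ?_⟩
    have := hconj r⁻¹ (U.inv_mem hr) _ h'
    rwa [inv_inv, show r⁻¹ * (r * x * r⁻¹) * r = x by group] at this
  obtain ⟨p, hpc⟩ := CharP.exists F
  obtain ⟨f, hp, hq⟩ := FiniteField.card F p
  have : Fact p.Prime := ⟨hp⟩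
  let N : Isom Q → (Idx 3 3 → F) → (Idx 3 3 → F) := fun u v => mat Q u *ᵥ v - v
  have hN1 : ∀ s x w, N (E s) (ten x w) = ten (esie B₁ 1 γ (s • e) (kk s) x - x) w := fun s x w => by
    show mat Q (E s) *ᵥ ten x w - ten x w = _
    rw [hE, ten_sub_left]
  have hN2 : ∀ s x w, N (E s) (N (E s) (ten x w)) = ten γ ((-(B₁ x γ * B₁ (s • e) (s • e))) • w) := fun s x w => by
    rw [hN1, hN1, ten_smul_right, ← ten_smul_left]
    congr 1
    simp only [esie_apply, map_add, map_sub, map_smul, LinearMap.add_apply, LinearMap.sub_apply,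
      LinearMap.smul_apply, smul_eq_mul, hγ, hs.symm₁ γ e, heγ]
    match_scalars <;> ring
  have hψinj : Function.Injective ψ := by
    refine (injective_iff_map_eq_one ψ).2 fun u hu => ?_
    obtain ⟨x₀, hx₀⟩ := h₁.exists_one hγ0
    have hh0 : h ≠ 0 := fun h0 => hh (by simp [h0])
    have h3 := hN2 u.toAdd x₀ h
    rw [show E u.toAdd = 1 from hu] at h3
    simp only [N, mat_one, one_mulVec, sub_self, hx₀, one_mul] at h3
    rcases ten_eq_zero.1 h3.symm with h4 | h4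
    · exact absurd h4 hγ0
    · simp only [smul_eq_zero, neg_eq_zero, map_smul, LinearMap.smul_apply, smul_eq_mul, mul_eq_zero, hh0, hee,
        or_false, or_self] at h4
      exact Multiplicative.toAdd.injective h4
  have hUel : Cfsg.IsElementaryAbelian p U := by
    refine ⟨⟨⟨?_⟩⟩, ?_⟩
    · rintro ⟨_, u, rfl⟩ ⟨_, v, rfl⟩
      exact Subtype.ext (show ψ u * ψ v = ψ v * ψ u by rw [← map_mul, ← map_mul, mul_comm])
    · rintro _ ⟨u, rfl⟩
      rw [← map_pow, show u ^ p = 1 from Multiplicative.toAdd.injective (by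
        rw [toAdd_pow, toAdd_one, nsmul_eq_mul, CharP.cast_eq_zero, zero_mul]), map_one]
  -- a centralised element outside `Kr`
  obtain ⟨m, hmY, hmK, u, hu1, hcomm⟩ : ∃ m ∈ Y, m ∉ Kr Q ∧ ∃ u, u ≠ 1 ∧ ψ u * m = m * ψ u := by
    have hu₀ : Multiplicative.ofAdd (1 : F) ≠ 1 := fun h => one_ne_zero (congrArg Multiplicative.toAdd h)
    have hyY : y ∈ Y := ⟨hyM, fun i w => by fin_cases i; exact hyfix w⟩
    by_cases hdiv : p ∣ Nat.card Y
    · obtain ⟨m, hm, hm1, ⟨k, hk⟩, hc⟩ := CfsgLib.TensorSympOrth.exists_fixed_pelement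
        (CfsgLib.Signalizer.isPGroup_of_elab hUel) hUY hdiv
      refine ⟨m, hm, fun hmK => hm1 ?_, _, hu₀, hc _ ⟨_, rfl⟩⟩
      obtain ⟨T, hT, hTh⟩ := hs.kr_fix hmK (h := h) (fun h0 => hh (by simp [h0])) (hm.2 0)
      rw [hT, hs.eq_one_of_fix_three rfl hh hTh (hs.kR_inj (by rw [map_pow, ← hT, hk, map_one])), map_one]
    · rcases Nat.lt_or_ge 1 f with hf | hf
      · obtain ⟨B, hB, hrel, hnot⟩ : ∃ B : Subgroup (Isom Q), B ≤ U ∧ B.relIndex U ≤ p ∧
            ¬ Y ⊓ Subgroup.centralizer (B : Set (Isom Q)) ≤ Kr Q := by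
          by_contra hcon
          push Not at hcon
          exact hyK (CfsgLib.Signalizer.le_of_forall_hyperplane hUel hdiv hUY (D := Kr Q) hcon hyY)
        have hBne : B ≠ ⊥ := by
          intro h0
          rw [h0, Subgroup.relIndex_bot_left, hU, ← Nat.card_congr (MonoidHom.ofInjective hψinj).toEquiv,
            Nat.card_congr Multiplicative.toAdd, Nat.card_eq_fintype_card, hq] at hrel
          have := Nat.pow_lt_pow_right hp.one_lt hf
          rw [pow_one] at this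
          omega
        obtain ⟨r, hr, hr1⟩ := (Subgroup.bot_or_exists_ne_one B).resolve_left hBne
        obtain ⟨u, rfl⟩ := hB hr
        obtain ⟨m, hm, hmK⟩ := SetLike.not_le_iff_exists.1 hnot
        exact ⟨m, hm.1, hmK, u, fun h => hr1 (by rw [h, map_one]), Subgroup.mem_centralizer_iff.1 hm.2 _ hr⟩
      · have hp5 : 5 ≤ p := by
          have := hS.five
          rw [hq, le_antisymm hf f.pos, pow_one] at this
          exact this
        refine ⟨y, hyY, hyK, _, hu₀, ?_⟩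
        set u₀ := Multiplicative.ofAdd (1 : F)
        let ρ : Isom Q →* Module.End F (Idx 3 3 → F) :=
          (Matrix.toLinAlgEquiv' : Matrix (Idx 3 3) (Idx 3 3) F ≃ₐ[F] _).toAlgHom.toMonoidHom.comp
            ((Units.coeHom _).comp (Cfsg.isometryGroup F ⇑Q).subtype)
        have hρ : ∀ g v, ρ g v = mat Q g *ᵥ v := fun g v => by simp [ρ, Matrix.toLinAlgEquiv'_apply]
        refine commute_of_cube hp5 ρ (fun g g' hgg => hs.ext_ten fun x w => by rw [← hρ, ← hρ, hgg]) hdiv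
          (hUY ⟨u₀, rfl⟩) (hUel.2 _ ⟨u₀, rfl⟩) ?_ hyY
        have hl : ∀ v, (ρ (ψ u₀) - 1) v = N (ψ u₀) v := fun v => by
          rw [LinearMap.sub_apply, hρ, Module.End.one_apply]
        refine LinearMap.ext fun v => ?_
        rw [pow_succ, pow_two, Module.End.mul_apply, Module.End.mul_apply, LinearMap.zero_apply]
        induction v using ten_induction with
        | hadd v w hv hw => rw [map_add, map_add, map_add, hv, hw, add_zero]
        | h0 => simp
        | h x w =>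
          rw [hl, hl, hl]
          show N (E u₀.toAdd) (N (E u₀.toAdd) (N (E u₀.toAdd) _)) = _
          rw [hN2, hN1, esie_apply, hs.symm₁ γ (u₀.toAdd • e), hze, hγ]
          simp [ten_eq_zero]
  -- the square of `u - 1`
  set z' := u.toAdd • e with hz'
  have hz0 : B₁ z' z' ≠ 0 := by
    simp only [hz', map_smul, LinearMap.smul_apply, smul_eq_mul]
    exact mul_ne_zero (fun h => hu1 (Multiplicative.toAdd.injective h))
      (mul_ne_zero (fun h => hu1 (Multiplicative.toAdd.injective h)) hee)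
  have hNm : ∀ v, N (ψ u) (mat Q m *ᵥ v) = mat Q m *ᵥ N (ψ u) v := fun v => by
    simp only [N, mulVec_sub]
    rw [mulVec_mulVec, mulVec_mulVec, ← mat_mul, ← mat_mul, hcomm]
  have hNadd : ∀ v w, N (ψ u) (v + w) = N (ψ u) v + N (ψ u) w := fun v w => by
    simp only [N, mulVec_add]; abel
  have himg : ∀ v, ∃ w', N (ψ u) (N (ψ u) v) = ten γ w' := fun v => by
    induction v using ten_induction with
    | hadd v w hv hw =>
      obtain ⟨v', hv'⟩ := hv
      obtain ⟨w', hw'⟩ := hw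
      exact ⟨v' + w', by rw [hNadd, hNadd, hv', hw', ten_add_right]⟩
    | h0 => exact ⟨0, by simp [N, ten_zero_right]⟩
    | h x w => exact ⟨_, hN2 _ x w⟩
  obtain ⟨x₀, hx₀⟩ := h₁.exists_one hγ0
  refine hM.no_left_slice hmY.1 hmK hγ0 ((hS.zero_iff _ _).1 hγ) fun w => ?_
  obtain ⟨w', hw'⟩ := himg (mat Q m *ᵥ ten x₀ ((-(B₁ z' z'))⁻¹ • w))
  refine ⟨w', ?_⟩
  rw [← hw', hNm, hNm, show N (ψ u) (N (ψ u) (ten x₀ _)) = _ from hN2 _ _ _, hx₀, one_mul, smul_smul,
    mul_inv_cancel₀ (neg_ne_zero.2 hz0), one_smul]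

end Over

end CfsgLib.TensorSquareThree
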