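import Cfsg.Agent.TensorSquareThree.Basic

/-!
# Involutions of the tensor square stabiliser
-/

set_option autoImplicit false
set_option linter.unusedSectionVars false

namespace CfsgLib.TensorSquareThree

open Matrix Module CfsgLib.Spinor CfsgLib.OrthMax CfsgLib.TensorOrth
open CfsgLib.TensorMax (Idx ten krG ten_add_left ten_add_right ten_smul_left ten_smul_right ten_eq_zero
  ten_inj_left ten_inj_right kron_mulVec_ten)
open CfsgLib.TensorSlice (ASet IsOrth fixP Pure scGL scGL_mul_mulVec exists_orth_basis ten_neg_left ten_neg_right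
  ten_sub_left ten_sub_right ten_zero_right)
open CfsgLib.TensorUnitary (ten_induction mat_ext_ten)
open scoped Kronecker

variable {F : Type*} [Field F] [Fintype F] {Q : QuadraticForm F (Idx 3 3 → F)}
  {B₁ B₂ : LinearMap.BilinForm F (Fin 3 → F)} {J z : Isom Q}

namespace Sq

variable (hS : Sq Q B₁ B₂ J z)
include hS

/-- The determinant of a similitude. -/
theorem det_sq (A : (Fin 3 → F) →ₗ[F] (Fin 3 → F)) {μ : F} (h : ∀ x y, B₂ (A x) (A y) = μ * B₂ x y) :
    (LinearMap.toMatrix' A).det * (LinearMap.toMatrix' A).det = μ ^ 3 := by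
  set G := LinearMap.BilinForm.toMatrix' B₂ with hG
  have hG0 : G.det ≠ 0 := by
    rw [← LinearMap.BilinForm.nondegenerate_toBilin'_iff_det_ne_zero, hG, Matrix.toBilin'_toMatrix']
    exact hS.aset.tset.f₂.nondeg
  have hcomp : B₂.comp A A = μ • B₂ := LinearMap.ext₂ fun x y => by simp [h]
  have hdet := congrArg (fun C => (LinearMap.BilinForm.toMatrix' C).det) hcomp
  simp only [LinearMap.BilinForm.toMatrix'_comp, map_smul, ← hG, det_smul, det_mul, det_transpose,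
    Fintype.card_fin] at hdet
  exact mul_right_cancel₀ hG0 (by linear_combination hdet)

/-- An orthogonal triple is a basis. -/
theorem expand {p : Fin 3 → Fin 3 → F} (hp : IsOrth B₂ p) (x : Fin 3 → F) :
    ∑ i, (B₂ x (p i) / B₂ (p i) (p i)) • p i = x := by
  have hli : LinearIndependent F p := Fintype.linearIndependent_iff.2 fun g hg i => by
    have h := congrArg (fun w => B₂ w (p i)) hg
    simp only [map_sum, LinearMap.sum_apply, map_smul, LinearMap.smul_apply, map_zero, LinearMap.zero_apply,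
      smul_eq_mul] at h
    rw [Finset.sum_eq_single i] at h
    · exact (mul_eq_zero.1 h).resolve_right (hp.1 i)
    · intro j _ hj; rw [hp.2 j i hj, mul_zero]
    · simp
  let b := basisOfLinearIndependentOfCardEqFinrank hli (by simp)
  have hb : ⇑b = p := coe_basisOfLinearIndependentOfCardEqFinrank hli _
  have h := hS.aset.swap.expand₁ (x := b) (by rw [hb]; exact hp) x
  rw [hb] at h
  exact h

/-- Two commuting reflections complete to a third one. -/
theorem exists_third {f g : Fin 3 → F} (hf : B₂ f f ≠ 0) (hg : B₂ g g ≠ 0) (hfg : B₂ f g = 0) :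
    ∃ k, B₂ k k ≠ 0 ∧ B₂ k f = 0 ∧ B₂ k g = 0 ∧ hS.P f * hS.P g = hS.P k ∧
      hS.Lam f * hS.Lam g = hS.Lam k := by
  have hgf : B₂ g f = 0 := by rw [hS.aset.symm₂, hfg]
  have o : IsOrth B₂ ![f, g] := by
    refine ⟨fun i => ?_, fun i j hij => ?_⟩
    · fin_cases i
      exacts [hf, hg]
    · fin_cases i <;> fin_cases j <;> first | exact absurd rfl hij | assumption
  obtain ⟨k, hk, hkp⟩ := hS.aset.exists_aniso_perp o (by norm_num)
  have hkf : B₂ k f = 0 := hkp 0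
  have hkg : B₂ k g = 0 := hkp 1
  have hfk : B₂ f k = 0 := by rw [hS.aset.symm₂, hkf]
  have hgk : B₂ g k = 0 := by rw [hS.aset.symm₂, hkg]
  have o3 : IsOrth B₂ ![f, g, k] := by
    refine ⟨fun i => ?_, fun i j hij => ?_⟩
    · fin_cases i
      exacts [hf, hg, hk]
    · fin_cases i <;> fin_cases j <;> first | exact absurd rfl hij | assumption
  have key : ∀ x, (((hS.aset.rR f * hS.aset.rR g : isoG B₂).1 : GL (Fin 3) F) : Matrix (Fin 3) (Fin 3) F) *ᵥ x
      = -(((hS.aset.rR k).1 : Matrix (Fin 3) (Fin 3) F) *ᵥ x) := fun x => by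
    show ((((hS.aset.rR f).1 * (hS.aset.rR g).1 : GL (Fin 3) F)) : Matrix (Fin 3) (Fin 3) F) *ᵥ x = _
    rw [Units.val_mul, ← mulVec_mulVec, hS.aset.rR_apply hg, mulVec_sub, mulVec_smul,
      hS.aset.rR_fix hf (show B₂ g f = 0 from hgf), hS.aset.rR_apply hf, hS.aset.rR_apply hk]
    have e := hS.expand o3 x
    rw [Fin.sum_univ_three] at e
    simp only [Matrix.cons_val_zero, Matrix.cons_val_one, Matrix.cons_val] at e
    linear_combination (norm := module) (-(2 : F)) • e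
  have hR : hS.R f * hS.R g = z * hS.R k := by
    rw [R, R, ← map_mul]
    refine hS.ext fun x y => ?_
    rw [hS.kR_ten, key, hS.mul_ten, hS.R_ten, hS.neg, ten_neg_right]
  have hL : hS.L f * hS.L g = z * hS.L k := by
    rw [L, L, ← map_mul]
    refine hS.ext fun x y => ?_
    rw [hS.kL_ten, key, hS.mul_ten, hS.L_ten, hS.neg, ten_neg_left]
  refine ⟨k, hk, hkf, hkg, ?_, ?_⟩
  · rw [P, P, P, show z * hS.R f * (z * hS.R g) = z * (hS.R f * z) * hS.R g by group, hS.z_comm,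
      show z * (z * hS.R f) * hS.R g = (z * z) * (hS.R f * hS.R g) by group, hS.z_sq, one_mul, hR]
  · rw [Lam, Lam, Lam, show z * hS.L f * (z * hS.L g) = z * (hS.L f * z) * hS.L g by group, hS.z_comm,
      show z * (z * hS.L f) * hS.L g = (z * z) * (hS.L f * hS.L g) by group, hS.z_sq, one_mul, hL]

theorem P_eq_zR (f : Fin 3 → F) : hS.P f = z * hS.R f := rfl

/-- An involutive isometry is a scalar or a scalar times a reflection. -/
theorem inv_cases {S : isoG B₂} (h : S * S = 1) :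
    (∀ x, (S.1 : Matrix (Fin 3) (Fin 3) F) *ᵥ x = x) ∨ (∀ x, (S.1 : Matrix (Fin 3) (Fin 3) F) *ᵥ x = -x) ∨
    ∃ e, B₂ e e ≠ 0 ∧ (S = hS.aset.rR e ∨
      ∀ x, (S.1 : Matrix (Fin 3) (Fin 3) F) *ᵥ x = -(((hS.aset.rR e).1 : Matrix (Fin 3) (Fin 3) F) *ᵥ x)) := by
  set A : (Fin 3 → F) →ₗ[F] (Fin 3 → F) := (S.1 : Matrix (Fin 3) (Fin 3) F).mulVecLin with hA
  have hAA : ∀ x, A (A x) = x := fun x => by
    have h1 : ((S.1 * S.1 : GL (Fin 3) F) : Matrix (Fin 3) (Fin 3) F) *ᵥ x = x := by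
      rw [show S.1 * S.1 = 1 from congrArg Subtype.val h, Units.val_one, one_mulVec]
    rwa [Units.val_mul, ← mulVec_mulVec] at h1
  set Ep := LinearMap.ker (A - LinearMap.id) with hEp
  set Em := LinearMap.ker (A + LinearMap.id) with hEm
  have hp : ∀ x, x ∈ Ep ↔ A x = x := fun x => by simp [hEp, sub_eq_zero]
  have hm : ∀ x, x ∈ Em ↔ A x = -x := fun x => by simp [hEm, add_eq_zero_iff_eq_neg]
  have horth : ∀ x ∈ Ep, ∀ y ∈ Em, B₂ x y = 0 := fun x hx y hy => by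
    have h1 : B₂ (A x) (A y) = B₂ x y := S.2 x y
    rw [(hp x).1 hx, (hm y).1 hy, map_neg] at h1
    exact (mul_eq_zero.1 (show (2 : F) * B₂ x y = 0 by linear_combination -h1)).resolve_left hS.aset.two
  have hdec : ∀ x, (2 : F)⁻¹ • (x + A x) ∈ Ep ∧ (2 : F)⁻¹ • (x - A x) ∈ Em ∧
      (2 : F)⁻¹ • (x + A x) + (2 : F)⁻¹ • (x - A x) = x := fun x => by
    refine ⟨(hp _).2 (by rw [map_smul, map_add, hAA, add_comm]),
      (hm _).2 (by rw [map_smul, map_sub, hAA, ← smul_neg, neg_sub]), ?_⟩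
    rw [← smul_add, add_add_sub_cancel, ← two_smul F x, smul_smul, inv_mul_cancel₀ hS.aset.two, one_smul]
  by_cases h1 : Em = ⊥
  · refine Or.inl fun x => ?_
    obtain ⟨hx, hy, hxy⟩ := hdec x
    rw [h1, Submodule.mem_bot] at hy
    rw [hy, add_zero] at hxy
    rw [hxy] at hx
    exact (hp x).1 hx
  by_cases h2 : Ep = ⊥
  · refine Or.inr (Or.inl fun x => ?_)
    obtain ⟨hx, hy, hxy⟩ := hdec x
    rw [h2, Submodule.mem_bot] at hx
    rw [hx, zero_add] at hxy
    rw [hxy] at hy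
    exact (hm x).1 hy
  refine Or.inr (Or.inr ?_)
  have hsum : finrank F Ep + finrank F Em = 3 := by
    have hsup : Ep ⊔ Em = ⊤ := eq_top_iff.2 fun x _ => Submodule.mem_sup.2
      ⟨_, (hdec x).1, _, (hdec x).2.1, (hdec x).2.2⟩
    have hinf : Ep ⊓ Em = ⊥ := (Submodule.eq_bot_iff _).2 fun x hx => by
      have h' := ((hp x).1 hx.1).symm.trans ((hm x).1 hx.2)
      rw [eq_neg_iff_add_eq_zero, ← two_smul F x] at h'
      exact (smul_eq_zero.1 h').resolve_left hS.aset.two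
    have h' := Submodule.finrank_sup_add_finrank_inf_eq Ep Em
    rw [hsup, hinf, finrank_top, finrank_bot, Module.finrank_fin_fun] at h'
    omega
  have hp1 : 1 ≤ finrank F Ep := Submodule.one_le_finrank_iff.2 h2
  have hm1 : 1 ≤ finrank F Em := Submodule.one_le_finrank_iff.2 h1
  have line : ∀ E : Submodule F (Fin 3 → F), finrank F E = 1 → ∃ e ∈ E, e ≠ 0 ∧ ∀ x ∈ E, ∃ s : F, s • e = x := by
    intro E hE
    obtain ⟨⟨e, he⟩, he0, hgen⟩ := finrank_eq_one_iff'.1 hE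
    exact ⟨e, he, fun h => he0 (Subtype.ext h), fun x hx => by
      obtain ⟨c, hc⟩ := hgen ⟨x, hx⟩
      exact ⟨c, congrArg Subtype.val hc⟩⟩
  rcases (show finrank F Em = 1 ∨ finrank F Ep = 1 by omega) with hd | hd
  · obtain ⟨e, heE, he0, hgen⟩ := line Em hd
    have he : B₂ e e ≠ 0 := fun h0 => he0 (hS.aset.tset.f₂.sep fun y => by
      obtain ⟨hx, hy, hxy⟩ := hdec y
      generalize (2 : F)⁻¹ • (y + A y) = p at hx hxy
      generalize (2 : F)⁻¹ • (y - A y) = q at hy hxy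
      obtain ⟨s, hs⟩ := hgen _ hy
      rw [← hxy, map_add, ← hs, map_smul, hS.aset.symm₂ e, horth _ hx _ heE, h0, smul_zero, add_zero])
    refine ⟨e, he, Or.inl (hS.aset.isoG_ext fun x => ?_)⟩
    obtain ⟨hx, hy, hxy⟩ := hdec x
    generalize (2 : F)⁻¹ • (x + A x) = p at hx hxy
    generalize (2 : F)⁻¹ • (x - A x) = q at hy hxy
    obtain ⟨s, hs⟩ := hgen _ hy
    rw [← hxy, mulVec_add, mulVec_add, hS.aset.rR_fix he (horth _ hx _ heE), ← hs, mulVec_smul, mulVec_smul,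
      hS.aset.rR_self he, show (S.1 : Matrix (Fin 3) (Fin 3) F) *ᵥ e = -e from (hm e).1 heE]
    exact congrArg (· + s • -e) ((hp _).1 hx)
  · obtain ⟨e, heE, he0, hgen⟩ := line Ep hd
    have he : B₂ e e ≠ 0 := fun h0 => he0 (hS.aset.tset.f₂.sep fun y => by
      obtain ⟨hx, hy, hxy⟩ := hdec y
      generalize (2 : F)⁻¹ • (y + A y) = p at hx hxy
      generalize (2 : F)⁻¹ • (y - A y) = q at hy hxy
      obtain ⟨s, hs⟩ := hgen _ hx
      rw [← hxy, map_add, ← hs, map_smul, horth _ heE _ hy, h0, smul_zero, add_zero])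
    refine ⟨e, he, Or.inr fun x => ?_⟩
    obtain ⟨hx, hy, hxy⟩ := hdec x
    generalize (2 : F)⁻¹ • (x + A x) = p at hx hxy
    generalize (2 : F)⁻¹ • (x - A x) = q at hy hxy
    obtain ⟨s, hs⟩ := hgen _ hx
    rw [← hxy, mulVec_add, mulVec_add, neg_add, hS.aset.rR_fix he (x := q) (by rw [hS.aset.symm₂]; exact horth _ heE _ hy),
      ← hs, mulVec_smul, mulVec_smul, hS.aset.rR_self he,
      show (S.1 : Matrix (Fin 3) (Fin 3) F) *ᵥ e = e from (hp e).1 heE, smul_neg, neg_neg]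
    exact congrArg (s • e + ·) ((hm _).1 hy)

/-- The images of involutive isometries. -/
theorem kR_cases {T : isoG B₂} (h : T * T = 1) :
    hS.kR T = 1 ∨ hS.kR T = z ∨ ∃ e, B₂ e e ≠ 0 ∧ (hS.kR T = hS.R e ∨ hS.kR T = hS.P e) := by
  rcases hS.inv_cases h with h1 | h1 | ⟨e, he, rfl | h1⟩
  · exact Or.inl (hS.ext fun x y => by rw [hS.kR_ten, h1, mat_one, one_mulVec])
  · exact Or.inr (Or.inl (hS.ext fun x y => by rw [hS.kR_ten, h1, hS.neg, ten_neg_right]))
  · exact Or.inr (Or.inr ⟨e, he, Or.inl rfl⟩)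
  · exact Or.inr (Or.inr ⟨e, he, Or.inr (hS.ext fun x y => by
      rw [hS.kR_ten, h1, P, hS.mul_ten, hS.R_ten, hS.neg, ten_neg_right])⟩)

/-- The images of involutive isometries. -/
theorem kL_cases {T : isoG B₂} (h : T * T = 1) :
    hS.kL T = 1 ∨ hS.kL T = z ∨ ∃ e, B₂ e e ≠ 0 ∧ (hS.kL T = hS.L e ∨ hS.kL T = hS.Lam e) := by
  rcases hS.inv_cases h with h1 | h1 | ⟨e, he, rfl | h1⟩
  · exact Or.inl (hS.ext fun x y => by rw [hS.kL_ten, h1, mat_one, one_mulVec])
  · exact Or.inr (Or.inl (hS.ext fun x y => by rw [hS.kL_ten, h1, hS.neg, ten_neg_left]))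
  · exact Or.inr (Or.inr ⟨e, he, Or.inl rfl⟩)
  · exact Or.inr (Or.inr ⟨e, he, Or.inr (hS.ext fun x y => by
      rw [hS.kL_ten, h1, Lam, hS.mul_ten, hS.L_ten, hS.neg, ten_neg_left])⟩)

theorem factors_sq {S T : isoG B₂} (h : hS.kL S * hS.kR T * (hS.kL S * hS.kR T) = 1) :
    S * S = 1 ∧ T * T = 1 := by
  have h0 : hS.kL (S * S) * hS.kR (T * T) = 1 := by
    rw [map_mul, map_mul]
    calc hS.kL S * hS.kL S * (hS.kR T * hS.kR T)
        = hS.kL S * (hS.kL S * hS.kR T) * hS.kR T := by group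
      _ = hS.kL S * (hS.kR T * hS.kL S) * hS.kR T := by rw [hS.LR_comm S T]
      _ = hS.kL S * hS.kR T * (hS.kL S * hS.kR T) := by group
      _ = 1 := h
  set S' := S * S with hS'
  set T' := T * T with hT'
  have hten : ∀ x y, ten ((S'.1 : Matrix (Fin 3) (Fin 3) F) *ᵥ x) ((T'.1 : Matrix (Fin 3) (Fin 3) F) *ᵥ y)
      = ten x y := fun x y => by
    rw [← hS.kL_ten, ← hS.kR_ten, ← hS.mul_ten, h0, mat_one, one_mulVec]
  have hy0 : (Pi.single (0 : Fin 3) (1 : F) : Fin 3 → F) ≠ 0 := by simp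
  obtain ⟨w, hw⟩ := hS.aset.tset.f₂.exists_one hy0
  set lam := B₂ ((T'.1 : Matrix (Fin 3) (Fin 3) F) *ᵥ Pi.single 0 1) w with hlam
  have hlam1 : ∀ x, lam • ((S'.1 : Matrix (Fin 3) (Fin 3) F) *ᵥ x) = x := fun x => by
    have h1 := congrArg (evB B₂ w) (hten x (Pi.single 0 1))
    rwa [evB_ten, evB_ten, hS.aset.symm₂ (Pi.single 0 1) w, hw, one_smul] at h1
  have hl0 : lam ≠ 0 := fun h0' => by
    have := hlam1 (Pi.single 0 1)
    rw [h0', zero_smul] at this
    exact hy0 this.symm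
  have hS1 : ∀ x, (S'.1 : Matrix (Fin 3) (Fin 3) F) *ᵥ x = lam⁻¹ • x := fun x => by
    conv_rhs => rw [← hlam1 x, smul_smul, inv_mul_cancel₀ hl0, one_smul]
  have hd : lam⁻¹ * lam⁻¹ * lam⁻¹ = 1 := by
    have h1 := hS.det_sq ((S.1 : Matrix (Fin 3) (Fin 3) F).mulVecLin) (μ := 1) fun x y => by
      rw [one_mul]; exact S.2 x y
    have h2 : (S'.1 : Matrix (Fin 3) (Fin 3) F).det = lam⁻¹ ^ 3 := by
      rw [show (S'.1 : Matrix (Fin 3) (Fin 3) F) = lam⁻¹ • (1 : Matrix (Fin 3) (Fin 3) F) from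
        Matrix.ext_iff_mulVec.2 fun x => by rw [hS1, smul_mulVec, one_mulVec], det_smul, det_one, mul_one,
        Fintype.card_fin]
    rw [one_pow, ← Matrix.toLin'_apply', LinearMap.toMatrix'_toLin', ← det_mul] at h1
    have h3 : (S'.1 : Matrix (Fin 3) (Fin 3) F) = (S.1 : Matrix (Fin 3) (Fin 3) F) * S.1 := by
      rw [hS', Subgroup.coe_mul, Units.val_mul]
    rw [← h3, h2] at h1
    linear_combination h1
  have hsq : lam⁻¹ * lam⁻¹ = 1 := by
    have h1 := S'.2 (Pi.single 0 1) w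
    rw [hS1, hS1, map_smul, map_smul, LinearMap.smul_apply, hS.aset.symm₂, hw, smul_eq_mul, smul_eq_mul,
      mul_one] at h1
    exact h1
  have hl1 : lam = 1 := by
    rw [hsq, one_mul] at hd
    exact inv_eq_one.1 hd
  have hS2 : ∀ x, (S'.1 : Matrix (Fin 3) (Fin 3) F) *ᵥ x = x := fun x => by
    rw [hS1, hl1, inv_one, one_smul]
  refine ⟨hS.aset.isoG_ext fun x => by rw [hS2, OneMemClass.coe_one, Units.val_one, one_mulVec],
    hS.aset.isoG_ext fun y => ?_⟩
  rw [OneMemClass.coe_one, Units.val_one, one_mulVec]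
  refine ten_inj_right hy0 ?_
  conv_rhs => rw [← hten, hS2]

/-- The involutions of `Kr ∩ Ω`. -/
theorem kr_inv_cases {c : Isom Q} (hc : c ∈ Kr Q) (hΩ : c ∈ Cfsg.Omega F ⇑Q) (h2 : c * c = 1) :
    c = 1 ∨ (∃ f, B₂ f f ≠ 0 ∧ c = hS.P f) ∨ (∃ e, B₂ e e ≠ 0 ∧ c = hS.Lam e) ∨
      ∃ e f, B₂ e e ≠ 0 ∧ B₂ f f ≠ 0 ∧ c = hS.L e * hS.R f := by
  obtain ⟨S, T, rfl⟩ := hS.factors hc
  obtain ⟨hSS, hTT⟩ := hS.factors_sq h2
  rcases hS.kL_cases hSS with hl | hl | ⟨e, he, hl | hl⟩ <;>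
    rcases hS.kR_cases hTT with hr | hr | ⟨f, hf, hr | hr⟩ <;> rw [hl, hr] at hΩ ⊢
  · exact Or.inl (one_mul 1)
  · rw [one_mul] at hΩ; exact absurd hΩ hS.z_notMem
  · rw [one_mul] at hΩ; exact absurd hΩ (hS.R_notMem hf)
  · exact Or.inr (Or.inl ⟨f, hf, one_mul _⟩)
  · rw [mul_one] at hΩ; exact absurd hΩ hS.z_notMem
  · exact Or.inl hS.z_sq
  · exact Or.inr (Or.inl ⟨f, hf, rfl⟩)
  · rw [P, ← mul_assoc, hS.z_sq, one_mul] at hΩ; exact absurd hΩ (hS.R_notMem hf)
  · rw [mul_one] at hΩ; exact absurd hΩ (hS.L_notMem he)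
  · exact Or.inr (Or.inr (Or.inl ⟨e, he, hS.z_comm _⟩))
  · exact Or.inr (Or.inr (Or.inr ⟨e, f, he, hf, rfl⟩))
  · rw [P, ← mul_assoc, hS.z_comm, mul_assoc] at hΩ
    exact absurd hΩ (hS.neg_pair_notMem e f (by rw [hS.det_R he, hS.det_R hf]))
  · exact Or.inr (Or.inr (Or.inl ⟨e, he, mul_one _⟩))
  · rw [Lam, hS.z_comm, ← mul_assoc, hS.z_sq, one_mul] at hΩ
    exact absurd hΩ (hS.L_notMem he)
  · rw [Lam, mul_assoc] at hΩ
    exact absurd hΩ (hS.neg_pair_notMem e f (by rw [hS.det_R he, hS.det_R hf]))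
  · exact Or.inr (Or.inr (Or.inr ⟨e, f, he, hf, hS.Lam_mul_P e f⟩))

/-- A right reflection commutes with another one only if their vectors are proportional or orthogonal. -/
theorem R_comm_cases {f g : Fin 3 → F} (hf : B₂ f f ≠ 0) (hg : B₂ g g ≠ 0)
    (h : hS.R g * hS.R f = hS.R f * hS.R g) : B₂ g f = 0 ∨ hS.R g = hS.R f := by
  refine or_iff_not_imp_left.2 fun hgf => ?_
  have h1 : hS.aset.rR g * hS.aset.rR f = hS.aset.rR f * hS.aset.rR g :=
    hS.aset.kR_inj (by rw [map_mul, map_mul]; exact h)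
  have h2 : hS.aset.rR (((hS.aset.rR f).1 : Matrix (Fin 3) (Fin 3) F) *ᵥ g) = hS.aset.rR g := by
    rw [← hS.aset.rR_conj _ hg, ← h1, mul_inv_cancel_right]
  have h3 := hS.aset.rR_eq (by rw [(hS.aset.rR f).2]; exact hg) hg h2
  rw [hS.aset.rR_apply hf] at h3
  set t := B₂ (g - (2 * B₂ g f / B₂ f f) • f) g / B₂ g g
  set c := 2 * B₂ g f / B₂ f f with hc
  have hc0 : c ≠ 0 := div_ne_zero (mul_ne_zero hS.aset.two hgf) hf
  have h4 : f = (c⁻¹ * (1 - t)) • g := by
    rw [← smul_smul, show (1 - t) • g = c • f by linear_combination (norm := module) h3, smul_smul,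
      inv_mul_cancel₀ hc0, one_smul]
  have h5 : c⁻¹ * (1 - t) ≠ 0 := fun h0 => hf (by rw [h4, h0]; simp)
  rw [h4]
  exact (hS.aset.R_smul hg h5).symm

/-- A pair of reflections determines both. -/
theorem pair_eq {e f e' f' : Fin 3 → F} (he : B₂ e e ≠ 0) (hf : B₂ f f ≠ 0) (he' : B₂ e' e' ≠ 0)
    (hf' : B₂ f' f' ≠ 0) (h : hS.L e * hS.R f = hS.L e' * hS.R f') : hS.R f = hS.R f' := by
  have hcomm : hS.R f' * hS.R f = hS.R f * hS.R f' := by
    have h1 : hS.R f * (hS.L e' * hS.R f') = hS.L e' * hS.R f' * hS.R f := by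
      rw [← h, ← mul_assoc, show hS.R f * hS.L e = hS.L e * hS.R f from (hS.LR_comm _ _).symm]
    rw [← mul_assoc, show hS.R f * hS.L e' = hS.L e' * hS.R f from (hS.LR_comm _ _).symm, mul_assoc,
      mul_assoc] at h1
    exact (mul_left_cancel h1).symm
  rcases hS.R_comm_cases hf hf' hcomm with h0 | h0
  · exfalso
    obtain ⟨k, hk, hkf, -, hP, -⟩ := hS.exists_third hf hf' (by rw [hS.aset.symm₂, h0])
    have hff : hS.R f * hS.R f' = hS.P k := by
      rw [← hP, P, P, show z * hS.R f * (z * hS.R f') = z * (hS.R f * z) * hS.R f' by group, hS.z_comm,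
        ← mul_assoc z z, hS.z_sq, one_mul]
    have h2 : hS.kL (hS.aset.rR e * hS.aset.rR e') = hS.P k := by
      rw [← hff, map_mul]
      have h3 : hS.L e * hS.R f * hS.R f' = hS.L e' := by rw [h, mul_assoc, hS.R_sq, mul_one]
      calc hS.L e * hS.L e' = hS.L e * (hS.L e * hS.R f * hS.R f') := by rw [h3]
        _ = (hS.L e * hS.L e) * (hS.R f * hS.R f') := by group
        _ = hS.R f * hS.R f' := by rw [hS.L_sq, one_mul]
    have hval : ∀ x y, mat Q (hS.P k) *ᵥ ten x y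
        = -ten x (((hS.aset.rR k).1 : Matrix (Fin 3) (Fin 3) F) *ᵥ y) := fun x y => by
      rw [P, hS.mul_ten, hS.R_ten, hS.neg]
    obtain ⟨x, hx⟩ := hS.aset.exists_ne₁
    have h4 := hval x k
    rw [← h2, hS.kL_ten, hS.aset.rR_self hk, ten_neg_right, neg_neg] at h4
    have hk0 : k ≠ 0 := fun h' => hk (by simp [h'])
    have hf0 : f ≠ 0 := fun h' => hf (by simp [h'])
    have h5 := hval x f
    rw [← h2, hS.kL_ten, hS.aset.rR_fix hk (by rw [hS.aset.symm₂, hkf]), ten_inj_left hk0 h4, eq_neg_iff_add_eq_zero,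
      ← two_smul F, smul_eq_zero, or_iff_right hS.aset.two, ten_eq_zero] at h5
    exact h5.elim hx hf0
  · exact h0.symm

end Sq

end CfsgLib.TensorSquareThree
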