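import Cfsg.Agent.TensorSquareThree.Involution

/-!
# Slices, classes of reflections and corrections into `Ω`
-/

set_option autoImplicit false
set_option linter.unusedSectionVars false

namespace CfsgLib.TensorSquareThree

open Matrix Module CfsgLib.Spinor CfsgLib.OrthMax CfsgLib.TensorOrth
open CfsgLib.TensorMax (Idx ten krG ten_add_left ten_add_right ten_smul_left ten_smul_right ten_eq_zero
  ten_inj_left ten_inj_right kron_mulVec_ten)
open CfsgLib.TensorSlice (ASet IsOrth fixP Pure scGL scGL_mul_mulVec exists_orth_basis ten_neg_left ten_neg_right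
  ten_sub_left ten_sub_right ten_zero_right)
open CfsgLib.TensorUnitary (ten_induction mat_ext_ten)
open scoped Kronecker

variable {F : Type*} [Field F] [Fintype F] {Q : QuadraticForm F (Idx 3 3 → F)}
  {B₁ B₂ : LinearMap.BilinForm F (Fin 3 → F)} {J z : Isom Q}

namespace Sq

variable (hS : Sq Q B₁ B₂ J z)
include hS

/-- A pure anisotropic slice is moved like by an element of `Kr`. -/
theorem exists_kr_of_pure {g : Isom Q} {f : Fin 3 → F} (hf : B₂ f f ≠ 0) (hp : Pure g f) :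
    ∃ h ∈ Kr Q, ∀ x, mat Q g *ᵥ ten x f = mat Q h *ᵥ ten x f := by
  obtain ⟨φ, hφ0, A, hA, hA'⟩ := hS.aset.pure_data (fun h => hf (by simp [h])) hp
  have hφ : B₂ φ φ ≠ 0 := fun h => hf ((hS.aset.pure_iso hA').2 h)
  obtain ⟨κ, hκ, hκB⟩ := hS.prop
  set μ := B₂ f f / B₂ φ φ with hμ
  have hμ0 : μ ≠ 0 := div_ne_zero hf hφ
  have hsim : ∀ x y, B₂ (A x) (A y) = μ * B₂ x y := fun x y => by
    have h := hA' x y
    rw [hκB, hκB] at h
    rw [hμ, div_mul_eq_mul_div, eq_div_iff hφ]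
    exact mul_left_cancel₀ hκ (by linear_combination h)
  set d := (LinearMap.toMatrix' A.toLinearMap).det
  have hd : d * d = μ ^ 3 := hS.det_sq A.toLinearMap hsim
  have hd0 : d ≠ 0 := fun h0 => pow_ne_zero 3 hμ0 (by rw [← hd, h0, mul_zero])
  set r := d / μ with hr
  have hr0 : r ≠ 0 := div_ne_zero hd0 hμ0
  have hr2 : r * r = μ := by
    rw [hr, div_mul_div_comm, hd, div_eq_iff (mul_ne_zero hμ0 hμ0)]
    ring
  set φ' := r • φ with hφ'
  have hval : B₂ φ' φ' = B₂ f f := by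
    rw [hφ', map_smul, map_smul, LinearMap.smul_apply, smul_eq_mul, smul_eq_mul, ← mul_assoc, hr2, hμ,
      div_mul_cancel₀ _ hφ]
  -- a reflection moving `f` to `± φ'`
  obtain ⟨v, hv, s, hs, hRf⟩ : ∃ v, B₂ v v ≠ 0 ∧ ∃ s : F, s * s = 1 ∧
      ((hS.aset.rR v).1 : Matrix (Fin 3) (Fin 3) F) *ᵥ f = s • φ' := by
    have hsym := hS.aset.symm₂ φ' f
    by_cases hv : B₂ (f - φ') (f - φ') = 0
    · have e1 : B₂ f φ' = B₂ f f := by
        simp only [map_sub, LinearMap.sub_apply, hval, hsym] at hv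
        exact mul_left_cancel₀ hS.aset.two (by linear_combination -hv)
      have e2 : B₂ (f + φ') (f + φ') = 4 * B₂ f f := by
        simp only [map_add, LinearMap.add_apply, hval, hsym, e1]; ring
      have hv' : B₂ (f + φ') (f + φ') ≠ 0 := by rw [e2]; exact mul_ne_zero hS.four_ne hf
      refine ⟨f + φ', hv', -1, by ring, ?_⟩
      rw [hS.aset.rR_apply hv', e2, map_add, e1,
        show 2 * (B₂ f f + B₂ f f) / (4 * B₂ f f) = 1 from
          (div_eq_one_iff_eq (mul_ne_zero hS.four_ne hf)).2 (by ring)]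
      module
    · refine ⟨f - φ', hv, 1, one_mul 1, ?_⟩
      have e : B₂ (f - φ') (f - φ') = 2 * B₂ f (f - φ') := by
        simp only [map_sub, LinearMap.sub_apply, hval, hsym]; ring
      rw [hS.aset.rR_apply hv, ← e, div_self hv]
      module
  let A'' : (Fin 3 → F) ≃ₗ[F] (Fin 3 → F) :=
    A.trans (LinearEquiv.smulOfNeZero F (Fin 3 → F) (s * r⁻¹)
      (mul_ne_zero (left_ne_zero_of_mul_eq_one hs) (inv_ne_zero hr0)))
  have hA''v : ∀ x, A'' x = (s * r⁻¹) • A x := fun x => rfl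
  let G : GL (Fin 3) F := Matrix.GeneralLinearGroup.toLin.symm
    (LinearMap.GeneralLinearGroup.ofLinearEquiv A'')
  have hG : ∀ x, (G : Matrix (Fin 3) (Fin 3) F) *ᵥ x = A'' x := fun x => by
    show LinearMap.toMatrix' (A'' : (Fin 3 → F) →ₗ[F] (Fin 3 → F)) *ᵥ x = _
    rw [LinearMap.toMatrix'_mulVec]; rfl
  have hGi : G ∈ isoG B₂ := fun x y => by
    rw [hG, hG, hA''v, hA''v, map_smul, map_smul, LinearMap.smul_apply, hsim, smul_eq_mul, smul_eq_mul, ← hr2]
    field_simp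
    linear_combination (B₂ x y) * hs
  refine ⟨hS.kL ⟨G, hGi⟩ * hS.R v, (Kr Q).mul_mem (hS.kL_mem _) (hS.kR_mem _), fun x => ?_⟩
  rw [hS.mul_ten, hS.R_ten, hRf, hS.kL_ten, hG, hA''v, hA, hφ', smul_smul, ten_smul_left, ten_smul_right,
    smul_smul]
  have : s * r⁻¹ * (s * r) = 1 := by field_simp; linear_combination hs
  rw [this, one_smul]

theorem pure_iff_fix {v : Idx 3 3 → F} {f : Fin 3 → F} (hf : B₂ f f ≠ 0) (h : mat Q (hS.P f) *ᵥ v = v) :
    ∃ x, v = ten x f := by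
  rw [P, hS.mul_ten, hS.neg] at h
  change -(mat Q (hS.aset.R f) *ᵥ v) = v at h
  rw [hS.aset.R_vec hf] at h
  refine ⟨(2 : F)⁻¹ • (2 / B₂ f f) • evB B₂ f v, ?_⟩
  rw [ten_smul_left, ten_smul_left]
  have e : (2 / B₂ f f) • ten (evB B₂ f v) f = (2 : F) • v := by linear_combination (norm := module) h
  rw [e, smul_smul, inv_mul_cancel₀ hS.aset.two, one_smul]

theorem P_fix {f : Fin 3 → F} (hf : B₂ f f ≠ 0) (x : Fin 3 → F) :
    mat Q (hS.P f) *ᵥ ten x f = ten x f := by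
  rw [P, hS.mul_ten, hS.R_ten, hS.aset.rR_self hf, ten_neg_right, hS.neg, neg_neg]

/-- Conjugate reflections give pure slices. -/
theorem pure_of_conj {g : Isom Q} {f f' : Fin 3 → F} (hf : B₂ f f ≠ 0) (hf' : B₂ f' f' ≠ 0)
    (h : g * hS.P f * g⁻¹ = hS.P f') : Pure g f := by
  refine ⟨f', fun x => hS.pure_iff_fix hf' ?_⟩
  rw [← h, hS.mul_ten, hS.mul_ten, mulVec_cancel, hS.P_fix hf]

/-- The classes of `P`. -/
theorem exists_class_const : ∃ C : F, C ≠ 0 ∧
    ∀ e, B₂ e e ≠ 0 → (hS.P e ∈ Cfsg.Omega F ⇑Q ↔ IsSquare (C * B₂ e e)) := by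
  obtain ⟨w, hw, -, C, hC, hmem, -⟩ := hS.aset.neg_R_omega ⟨1, rfl⟩
  have e : w = z := hS.ext fun x y => by rw [hw, hS.neg]
  subst e
  refine ⟨C, hC, fun e he => ?_⟩
  have := hmem e he
  rwa [or_iff_right (by decide : ¬ Even 3)] at this

/-- A class vector. -/
theorem exists_class : ∃ f, B₂ f f ≠ 0 ∧ hS.P f ∈ Cfsg.Omega F ⇑Q := by
  obtain ⟨C, hC, h⟩ := hS.exists_class_const
  obtain ⟨k, -, hk⟩ := hS.aset.exists_value (p := ![])
    ⟨fun i => i.elim0, fun i => i.elim0⟩ (by norm_num) C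
  exact ⟨k, by rw [hk]; exact hC, (h k (by rw [hk]; exact hC)).2 (by rw [hk]; exact IsSquare.mul_self C)⟩

/-- A class vector orthogonal to a given one. -/
theorem exists_class_perp {f : Fin 3 → F} (hf : B₂ f f ≠ 0) :
    ∃ k, B₂ k k ≠ 0 ∧ B₂ k f = 0 ∧ hS.P k ∈ Cfsg.Omega F ⇑Q := by
  obtain ⟨C, hC, h⟩ := hS.exists_class_const
  obtain ⟨k, hkf, hk⟩ := hS.aset.exists_value (p := ![f])
    ⟨fun i => by fin_cases i; exact hf, fun i j hij => absurd (Subsingleton.elim i j) hij⟩ (by norm_num) C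
  exact ⟨k, by rw [hk]; exact hC, hkf 0, (h k (by rw [hk]; exact hC)).2 (by rw [hk]; exact IsSquare.mul_self C)⟩

/-- Any isometry is corrected into `Ω` by reflections fixing `A ⊗ f`. -/
theorem adjust (g : Isom Q) {f : Fin 3 → F} (hf : B₂ f f ≠ 0) :
    ∃ k ∈ Kr Q, (∀ x, mat Q k *ᵥ ten x f = ten x f) ∧ g * k ∈ Cfsg.Omega F ⇑Q := by
  have hs := hS.aset
  obtain ⟨vs, hvs⟩ := exists_isReflProd hs.two hs.tset.nondeg g
  set q := (vs.map fun v => Q v).prod with hq
  have hq0 : q ≠ 0 := by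
    rw [hq]
    refine List.prod_ne_zero fun h0 => ?_
    obtain ⟨v, hv, hv0⟩ := List.mem_map.1 h0
    exact hvs.1 v hv hv0
  obtain ⟨x, hx⟩ := exists_orth_basis hs.tset.f₁ hs.two
  set D := ∏ i, B₁ (x i) (x i) / 2 with hD
  have hD0 : D ≠ 0 := Finset.prod_ne_zero_iff.2 fun i _ => div_ne_zero (hx.1 i) hs.two
  have hR : ∀ e, ((List.ofFn fun i => ten (x i) e).map fun v => Q v).prod = D * B₂ e e ^ 3 := fun e => by
    rw [List.map_ofFn, List.prod_ofFn, hD]
    simp only [Function.comp_apply, hs.quad_ten, Fin.prod_univ_three]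
    ring
  have of : IsOrth B₂ ![f] :=
    ⟨fun i => by fin_cases i; exact hf, fun i j hij => absurd (Subsingleton.elim i j) hij⟩
  have hfix : ∀ {e}, B₂ e e ≠ 0 → B₂ e f = 0 → ∀ x, mat Q (hS.R e) *ᵥ ten x f = ten x f := fun he hef x =>
    hs.R_fix_ten he (by rw [hs.symm₂, hef]) x
  rcases Nat.even_or_odd vs.length with hl | hl
  · obtain ⟨e₁, h1f, h1⟩ := hs.exists_value (p := ![f]) of (by norm_num) 1
    obtain ⟨e₂, h2f, h2⟩ := hs.exists_value (p := ![f]) of (by norm_num) q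
    have he1 : B₂ e₁ e₁ ≠ 0 := by rw [h1]; exact one_ne_zero
    have he2 : B₂ e₂ e₂ ≠ 0 := by rw [h2]; exact hq0
    refine ⟨hS.R e₁ * hS.R e₂, (Kr Q).mul_mem (hS.kR_mem _) (hS.kR_mem _),
      fun x => by rw [hS.mul_ten, hfix he2 (h2f 0), hfix he1 (h1f 0)], ?_⟩
    show g * (hs.R e₁ * hs.R e₂) ∈ _
    rw [mem_omega_iff hs.two hs.tset.nondeg
      (hvs.mul ((hs.R_isReflProd hx he1).mul (hs.R_isReflProd hx he2))), List.length_append, List.length_append,
      List.length_ofFn, List.length_ofFn, List.map_append, List.map_append, List.prod_append, List.prod_append,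
      hR, hR, h1, h2, ← hq]
    exact ⟨hl.add ⟨3, rfl⟩, D * q * q, by ring⟩
  · obtain ⟨e, hef, he'⟩ := hs.exists_value (p := ![f]) of (by norm_num) (D * q)
    have he : B₂ e e ≠ 0 := by rw [he']; exact mul_ne_zero hD0 hq0
    refine ⟨hS.R e, hS.kR_mem _, hfix he (hef 0), ?_⟩
    show g * hs.R e ∈ _
    rw [mem_omega_iff hs.two hs.tset.nondeg (hvs.mul (hs.R_isReflProd hx he)), List.length_append,
      List.length_ofFn, List.map_append, List.prod_append, hR, he', ← hq]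
    exact ⟨hl.add_odd ⟨1, rfl⟩, D * D * q * q, by ring⟩

end Sq

end CfsgLib.TensorSquareThree
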