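import Cfsg.Agent.TensorSquareThree.Fix

/-!
# A conjugate of `P f` exchanging the factors does not exist
-/

set_option autoImplicit false
set_option linter.unusedSectionVars false

namespace CfsgLib.TensorSquareThree

open Matrix Module CfsgLib.Spinor CfsgLib.OrthMax CfsgLib.TensorOrth
open CfsgLib.TensorMax (Idx ten ten_add_left ten_add_right ten_smul_left ten_smul_right ten_eq_zero
  ten_inj_left ten_inj_right)
open CfsgLib.TensorSlice (ASet IsOrth Pure ten_neg_left ten_neg_right ten_sub_left)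
open CfsgLib.TensorUnitary (ten_induction)

variable {F : Type*} [Field F] [Fintype F] {Q : QuadraticForm F (Idx 3 3 → F)}
  {B₁ B₂ : LinearMap.BilinForm F (Fin 3 → F)} {J z : Isom Q} {M : Subgroup (Isom Q)}

namespace Over

variable {hS : Sq Q B₁ B₂ J z} (hM : Over hS M)
include hM

/-- An element of `M` agreeing with an element of the stabiliser on an anisotropic slice. -/
theorem eq_mul_kr {g : Isom Q} (hg : g ∈ M) {h₀ : Isom Q} (h₀N : h₀ ∈ hS.Nr) {f : Fin 3 → F} (hf : B₂ f f ≠ 0)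
    (h : ∀ x, mat Q g *ᵥ ten x f = mat Q h₀ *ᵥ ten x f) : ∃ k ∈ Kr Q, g = h₀ * k := by
  obtain ⟨k, hk, hkf, hkΩ⟩ := hS.adjust h₀ hf
  have hk₀ : h₀ * k ∈ M := hM.mem _ hkΩ (hS.Nr.mul_mem h₀N (hS.kr_le_nr hk))
  refine ⟨k * ((h₀ * k)⁻¹ * g), (Kr Q).mul_mem hk (hM.fix_mem_kr (M.mul_mem (M.inv_mem hk₀) hg) hf fun x => ?_),
    by group⟩
  rw [hS.mul_ten, h]
  refine mulVec_injective (h₀ * k) ?_
  show mat Q (h₀ * k) *ᵥ _ = mat Q (h₀ * k) *ᵥ _
  rw [mulVec_cancel', hS.mul_ten, hkf]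

/-- The centraliser of `P f` lies in `Kr`. -/
theorem cen_P {g : Isom Q} (hg : g ∈ M) {f : Fin 3 → F} (hf : B₂ f f ≠ 0) (hc : g * hS.P f = hS.P f * g) :
    g ∈ Kr Q := by
  obtain ⟨h₀, hh₀, h⟩ := hS.exists_kr_of_pure hf
    (hS.pure_of_conj (g := g) hf hf (by rw [hc, mul_inv_cancel_right]))
  obtain ⟨k, hk, rfl⟩ := hM.eq_mul_kr hg (hS.kr_le_nr hh₀) hf h
  exact (Kr Q).mul_mem hh₀ hk

/-- The centraliser of `Λ e` lies in `Kr`. -/
theorem cen_Lam {g : Isom Q} (hg : g ∈ M) {e : Fin 3 → F} (he : B₂ e e ≠ 0)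
    (hc : g * hS.Lam e = hS.Lam e * g) : g ∈ Kr Q := by
  have hJ : ∀ x : Isom Q, J * (J * x * J) * J = x := fun x => by
    rw [show J * (J * x * J) * J = (J * J) * x * (J * J) by group, hS.J_sq, one_mul, mul_one]
  have h := hM.flip.cen_P (g := J * g * J) (by
    show J * (J * g * J) * J⁻¹ ∈ M
    rwa [hS.J_inv, hJ]) he (by
    rw [hS.Lam_eq] at hc
    calc J * g * J * hS.P e = J * (g * (J * hS.P e * J)) * J := by
          rw [show J * (g * (J * hS.P e * J)) * J = J * g * J * hS.P e * (J * J) by group, hS.J_sq, mul_one]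
      _ = J * (J * hS.P e * J * g) * J := by rw [hc]
      _ = hS.P e * (J * g * J) := by
          rw [show J * (J * hS.P e * J * g) * J = (J * J) * hS.P e * (J * g * J) by group, hS.J_sq, one_mul])
  have := hS.flip_conj_mem h
  rwa [hJ] at this

/-- No conjugate of `P f` exchanges the factors. -/
theorem no_flip_conj {g : Isom Q} (hg : g ∈ M) {f : Fin 3 → F} (hf : B₂ f f ≠ 0)
    (hP : hS.P f ∈ Cfsg.Omega F ⇑Q) (h : J * (g * hS.P f * g⁻¹) ∈ Kr Q) : False := by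
  classical
  have hs := hS.aset
  have hX := hS.ctx fun x hx hxK => hM.mem_kr hx hxK
  have h₁ := hs.tset.f₁
  obtain ⟨σ, hσ⟩ : ∃ s, s = g * hS.P f * g⁻¹ := ⟨_, rfl⟩
  rw [← hσ] at h
  have hσM : σ ∈ M := hσ ▸ M.mul_mem (M.mul_mem hg (hM.mem_kr hP (hS.P_mem f))) (M.inv_mem hg)
  have hσ2 : σ * σ = 1 := by
    rw [hσ, show g * hS.P f * g⁻¹ * (g * hS.P f * g⁻¹) = g * (hS.P f * hS.P f) * g⁻¹ by group, hS.P_sq, mul_one,
      mul_inv_cancel]
  have hσi : σ⁻¹ = σ := inv_eq_of_mul_eq_one_right hσ2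
  obtain ⟨A, B, hAB⟩ := hS.factors h
  have hσv : ∀ x y, mat Q σ *ᵥ ten x y
      = ten ((B.1 : Matrix (Fin 3) (Fin 3) F) *ᵥ y) ((A.1 : Matrix (Fin 3) (Fin 3) F) *ᵥ x) := fun x y => by
    rw [show σ = J * (hS.kL A * hS.kR B) by rw [← hAB, ← mul_assoc, hS.J_sq, one_mul], hS.mul_ten, hS.mul_ten,
      hS.kR_ten, hS.kL_ten, hS.flip]
  -- the elements built from the roots
  set D : isoG B₂ → Isom Q := fun X => hS.kL X * hS.kR (A * X * A⁻¹) with hD
  have hsw : ∀ X, σ * hS.kL X = hS.kR (A * X * A⁻¹) * σ := fun X => hS.ext fun x y => by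
    rw [hS.mul_ten, hS.mul_ten, hS.kL_ten, hσv, hσv, hS.kR_ten]
    congr 1
    simp only [Subgroup.coe_mul, Units.val_mul, InvMemClass.coe_inv, ← mulVec_mulVec]
    rw [mulVec_mulVec x ((A.1⁻¹ : GL (Fin 3) F) : Matrix (Fin 3) (Fin 3) F) (A.1 : Matrix (Fin 3) (Fin 3) F),
      Units.inv_mul, one_mulVec]
  have hDσ : ∀ X, σ * D X = D X * σ := fun X => by
    have e : σ * hS.kR (A * X * A⁻¹) = hS.kL X * σ := by
      calc σ * hS.kR (A * X * A⁻¹) = σ * (hS.kR (A * X * A⁻¹) * σ) * σ := by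
            rw [show σ * (hS.kR (A * X * A⁻¹) * σ) * σ = σ * hS.kR (A * X * A⁻¹) * (σ * σ) by group, hσ2, mul_one]
        _ = σ * (σ * hS.kL X) * σ := by rw [hsw]
        _ = hS.kL X * σ := by rw [← mul_assoc, hσ2, one_mul]
    calc σ * D X = σ * hS.kR (A * X * A⁻¹) * hS.kL X := by
          show σ * (hS.kL X * hS.kR (A * X * A⁻¹)) = _
          rw [hS.LR_comm]; group
      _ = hS.kL X * (hS.kR (A * X * A⁻¹) * σ) := by rw [e, mul_assoc, hsw]
      _ = D X * σ := (mul_assoc _ _ _).symm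
  -- the contraction of a vector into an operator
  let Φ : (Idx 3 3 → F) →ₗ[F] ((Fin 3 → F) →ₗ[F] (Fin 3 → F)) :=
    { toFun := fun v =>
        { toFun := fun u => evB B₂ ((A.1 : Matrix (Fin 3) (Fin 3) F) *ᵥ u) v
          map_add' := fun u u' => by rw [mulVec_add, TensorOrth.evB_add_right]
          map_smul' := fun c u => by rw [mulVec_smul, TensorOrth.evB_smul_right, RingHom.id_apply] }
      map_add' := fun v v' => LinearMap.ext fun u => map_add (evB B₂ ((A.1 : Matrix (Fin 3) (Fin 3) F) *ᵥ u)) v v'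
      map_smul' := fun c v => LinearMap.ext fun u => map_smul (evB B₂ ((A.1 : Matrix (Fin 3) (Fin 3) F) *ᵥ u)) c v }
  have hΦv : ∀ v u, Φ v u = evB B₂ ((A.1 : Matrix (Fin 3) (Fin 3) F) *ᵥ u) v := fun v u => rfl
  have hΦinj : Function.Injective Φ := by
    refine (injective_iff_map_eq_zero Φ).2 fun v hv => ?_
    have hev : ∀ w, evB B₂ w v = 0 := fun w => by
      have h1 := LinearMap.congr_fun hv (((A⁻¹ : isoG B₂).1 : Matrix (Fin 3) (Fin 3) F) *ᵥ w)
      rw [hΦv, mulVec_mulVec, ← Units.val_mul, ← Subgroup.coe_mul, mul_inv_cancel, OneMemClass.coe_one,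
        Units.val_one, one_mulVec] at h1
      exact h1
    refine hs.tset.nondeg.1 v fun w => ?_
    rw [QuadraticMap.polarBilin_apply_apply]
    induction w using ten_induction with
    | hadd w w' hw hw' => rw [QuadraticMap.polar_add_right, hw, hw', add_zero]
    | h0 => rw [QuadraticMap.polar_zero_right]
    | h x y => rw [hs.tset.polar_ten, hev, map_zero, LinearMap.zero_apply]
  have hevR : ∀ (T : isoG B₂) w v, evB B₂ ((T.1 : Matrix (Fin 3) (Fin 3) F) *ᵥ w) (mat Q (hS.kR T) *ᵥ v)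
      = evB B₂ w v := fun T w v => by
    induction v using ten_induction with
    | hadd v v' hv hv' => rw [mulVec_add, map_add, map_add, hv, hv']
    | h0 => simp
    | h x y => rw [hS.kR_ten, evB_ten, evB_ten, T.2]
  have hevL : ∀ (T : isoG B₂) w v, evB B₂ w (mat Q (hS.kL T) *ᵥ v)
      = (T.1 : Matrix (Fin 3) (Fin 3) F) *ᵥ evB B₂ w v := fun T w v => by
    induction v using ten_induction with
    | hadd v v' hv hv' => rw [mulVec_add, map_add, map_add, hv, hv', mulVec_add]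
    | h0 => simp
    | h x y => rw [hS.kL_ten, evB_ten, evB_ten, mulVec_smul]
  have hΦD : ∀ X v u, Φ (mat Q (D X) *ᵥ v) ((X.1 : Matrix (Fin 3) (Fin 3) F) *ᵥ u)
      = (X.1 : Matrix (Fin 3) (Fin 3) F) *ᵥ Φ v u := fun X v u => by
    rw [hΦv, hΦv, hD, hS.mul_ten, hevL, ← hevR (A * X * A⁻¹) ((A.1 : Matrix (Fin 3) (Fin 3) F) *ᵥ u) v]
    congr 2
    simp only [Subgroup.coe_mul, Units.val_mul, InvMemClass.coe_inv, ← mulVec_mulVec]
    rw [mulVec_mulVec u ((A.1⁻¹ : GL (Fin 3) F) : Matrix (Fin 3) (Fin 3) F) (A.1 : Matrix (Fin 3) (Fin 3) F),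
      Units.inv_mul, one_mulVec]
  obtain ⟨ι, hι⟩ := (LinearMap.injective_iff_surjective_of_finrank_eq_finrank (by
    rw [Module.finrank_linearMap, Module.finrank_fin_fun, Module.finrank_pi, Fintype.card_prod,
      Fintype.card_fin])).1 hΦinj LinearMap.id
  have hι0 : ι ≠ 0 := fun h0 => by
    rw [h0, map_zero] at hι
    have := LinearMap.congr_fun hι (Pi.single 0 1)
    simpa using congrFun this.symm 0
  have hιfix : ∀ X, mat Q (D X) *ᵥ ι = ι := fun X => hΦinj (LinearMap.ext fun u => by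
    obtain ⟨u, rfl⟩ : ∃ u', (X.1 : Matrix (Fin 3) (Fin 3) F) *ᵥ u' = u :=
      ⟨((X⁻¹ : isoG B₂).1 : Matrix (Fin 3) (Fin 3) F) *ᵥ u, by
        rw [mulVec_mulVec, ← Units.val_mul, ← Subgroup.coe_mul, mul_inv_cancel, OneMemClass.coe_one, Units.val_one,
          one_mulVec]⟩
    rw [hΦD, hι, LinearMap.id_apply, LinearMap.id_apply])
  -- the roots
  obtain ⟨p, hpc⟩ := CharP.exists F
  obtain ⟨q, hp, -⟩ := FiniteField.card F p
  have : Fact p.Prime := ⟨hp⟩
  have hroot : ∀ {γ w : Fin 3 → F} {k : F} (hγ : B₁ γ γ = 0) (hw : B₁ w γ = 0),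
      k * (1 + 1) + B₁ w w = 0 → ∃ X : isoG B₂, D X ∈ M ∧ (∃ n : ℕ, X ^ p ^ n = 1) ∧
        ∀ x, (X.1 : Matrix (Fin 3) (Fin 3) F) *ᵥ x = esie B₁ 1 γ w k x := by
    intro γ w k hγ hw hk
    have hmem := h₁.eGL_mem hγ hw hk
    set X : isoG B₂ := ⟨h₁.eGL hγ hw k, by rw [← hS.isoG_eq]; exact h₁.fgrp_le hmem⟩ with hXdef
    obtain ⟨e, he, hev⟩ := hX.left hmem
    have heX : hS.kL X = e := hS.ext fun x y => by rw [hS.kL_ten, hev]
    refine ⟨X, ?_, ?_, fun x => h₁.eGL_mulVec hγ hw k x⟩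
    · refine M.mul_mem (heX ▸ he) ?_
      rw [show hS.kR (A * X * A⁻¹) = σ * hS.kL X * σ⁻¹ by rw [hsw, mul_inv_cancel_right]]
      exact M.mul_mem (M.mul_mem hσM (heX ▸ he)) (M.inv_mem hσM)
    · obtain ⟨n, hn⟩ := rootsAt_isPGroup h₁ (by norm_num) hγ γ
        (⟨h₁.eGL hγ hw k, w, k, hw, hw, hk, fun x => h₁.eGL_mulVec hγ hw k x⟩ : rootsAt B₁ 1 h₁ hγ γ) (p := p)
      exact ⟨n, Subtype.ext (by simpa using congrArg Subtype.val hn)⟩
  -- in `g⁻¹ D g` only the left factor is left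
  have himg : ∀ X : isoG B₂, D X ∈ M → (∃ n : ℕ, X ^ p ^ n = 1) →
      ∃ S : isoG B₂, g⁻¹ * D X * g = hS.kL S := by
    rintro X hX' ⟨n, hn⟩
    obtain ⟨d, hd⟩ : ∃ d, d = g⁻¹ * D X * g := ⟨_, rfl⟩
    have hdM : d ∈ M := hd ▸ M.mul_mem (M.mul_mem (M.inv_mem hg) hX') hg
    have hdP : d * hS.P f = hS.P f * d := by
      have e := hDσ X
      rw [hσ] at e
      calc d * hS.P f = g⁻¹ * (D X * (g * hS.P f * g⁻¹)) * g := by rw [hd]; group
        _ = g⁻¹ * (g * hS.P f * g⁻¹ * D X) * g := by rw [e]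
        _ = hS.P f * d := by rw [hd]; group
    obtain ⟨S, T, hST⟩ := hS.factors (hM.cen_P hdM hf hdP)
    have hR : hS.kR T * hS.R f = hS.R f * hS.kR T := by
      have h1 : d * hS.R f = hS.R f * d := by
        rw [Sq.P, ← mul_assoc, hS.z_comm, mul_assoc, mul_assoc] at hdP
        exact mul_left_cancel hdP
      rw [hST, mul_assoc, ← mul_assoc (hS.R f),
        show hS.R f * hS.kL S = hS.kL S * hS.R f from (hS.LR_comm _ _).symm, mul_assoc (hS.kL S)] at h1
      exact mul_left_cancel h1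
    have hTR : T * hs.rR f * T⁻¹ = hs.rR f := by
      rw [mul_inv_eq_iff_eq_mul]
      exact hs.kR_inj (by rw [map_mul, map_mul]; exact hR)
    rw [hs.rR_conj T hf] at hTR
    have hTf : B₂ ((T.1 : Matrix (Fin 3) (Fin 3) F) *ᵥ f) ((T.1 : Matrix (Fin 3) (Fin 3) F) *ᵥ f) ≠ 0 := by
      rwa [T.2]
    have h3 := hs.rR_eq hTf hf hTR
    set s := B₂ ((T.1 : Matrix (Fin 3) (Fin 3) F) *ᵥ f) f / B₂ f f
    have hs2 : s * s = 1 := by
      have h4 := T.2 f f
      rw [h3] at h4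
      simp only [map_smul, LinearMap.smul_apply, smul_eq_mul, ← mul_assoc] at h4
      exact mul_right_cancel₀ hf (by rw [one_mul]; exact h4)
    -- normalise the sign
    obtain ⟨S', T', hST', hT'f⟩ : ∃ S' T' : isoG B₂, d = hS.kL S' * hS.kR T' ∧
        (T'.1 : Matrix (Fin 3) (Fin 3) F) *ᵥ f = f := by
      rcases mul_self_eq_one_iff.1 hs2 with h5 | h5
      · exact ⟨S, T, hST, by rw [h3, h5, one_smul]⟩
      · set ng : isoG B₂ := ⟨-1, fun x y => by simp [Units.val_neg, neg_mulVec]⟩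
        have hng : ∀ x, (ng.1 : Matrix (Fin 3) (Fin 3) F) *ᵥ x = -x := fun x => by simp [ng, neg_mulVec]
        have hmul : ∀ (U : isoG B₂) x, ((ng * U).1 : Matrix (Fin 3) (Fin 3) F) *ᵥ x
            = -((U.1 : Matrix (Fin 3) (Fin 3) F) *ᵥ x) := fun U x => by
          rw [Subgroup.coe_mul, Units.val_mul, ← mulVec_mulVec, hng]
        refine ⟨ng * S, ng * T, hST.trans (hS.ext fun x y => ?_), ?_⟩
        · rw [hS.mul_ten, hS.mul_ten, hS.kR_ten, hS.kL_ten, hS.kR_ten, hS.kL_ten, hmul, hmul, ten_neg_left,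
            ten_neg_right, neg_neg]
        · rw [hmul, h3, h5, neg_one_smul, neg_neg]
    have hdn : d ^ p ^ n = 1 := by
      rw [hd]
      have e : (g⁻¹ * D X * g) ^ p ^ n = g⁻¹ * (D X) ^ p ^ n * g := by
        conv_lhs => rw [show g⁻¹ * D X * g = g⁻¹ * D X * g⁻¹⁻¹ by rw [inv_inv], conj_pow, inv_inv]
      rw [e, hD, (show Commute (hS.kL X) (hS.kR (A * X * A⁻¹)) from hS.LR_comm _ _).mul_pow, ← map_pow, ← map_pow,
        conj_pow, hn, mul_one, mul_inv_cancel, map_one, map_one]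
      group
    rw [hST', (show Commute (hS.kL S') (hS.kR T') from hS.LR_comm _ _).mul_pow, ← map_pow, ← map_pow] at hdn
    have hTm : ∀ m : ℕ, ((T' ^ m).1 : Matrix (Fin 3) (Fin 3) F) *ᵥ f = f := fun m => by
      induction m with
      | zero => simp
      | succ m ih => rw [pow_succ, Subgroup.coe_mul, Units.val_mul, ← mulVec_mulVec, hT'f, ih]
    have hS1 : S' ^ p ^ n = 1 := hs.isoG_ext fun x => by
      rw [OneMemClass.coe_one, Units.val_one, one_mulVec]
      refine ten_inj_left (show f ≠ 0 from fun h0 => hf (by simp [h0])) ?_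
      have h6 : mat Q (hS.kL (S' ^ p ^ n) * hS.kR (T' ^ p ^ n)) *ᵥ ten x f = ten x f := by
        rw [hdn, mat_one, one_mulVec]
      rwa [hS.mul_ten, hS.kR_ten, hTm, hS.kL_ten] at h6
    rw [hS1, map_one, one_mul] at hdn
    have hT1 : T' = 1 := hs.eq_one_of_fix_three rfl hf hT'f (hs.kR_inj (by rw [map_one]; exact hdn))
    exact ⟨S', by rw [← hd, hST', hT1, map_one, mul_one]⟩
  -- a vector of the left slice is moved into the line of `ι`
  obtain ⟨w₀, hw₀⟩ : ∃ w, evB B₂ w (mat Q g⁻¹ *ᵥ ι) ≠ 0 := by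
    by_contra! h0
    refine hι0 ?_
    rw [← mulVec_cancel' g ι]
    have : mat Q g⁻¹ *ᵥ ι = 0 := by
      refine hs.tset.nondeg.1 _ fun w => ?_
      rw [QuadraticMap.polarBilin_apply_apply]
      induction w using ten_induction with
      | hadd w w' hw hw' => rw [QuadraticMap.polar_add_right, hw, hw', add_zero]
      | h0 => rw [QuadraticMap.polar_zero_right]
      | h x y => rw [hs.tset.polar_ten, h0, map_zero, LinearMap.zero_apply]
    rw [this, mulVec_zero]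
  set u₀ := evB B₂ w₀ (mat Q g⁻¹ *ᵥ ι) with hu₀
  have hline : ∀ y, ∃ l : F, mat Q g *ᵥ ten u₀ y = l • ι := by
    intro y
    obtain ⟨l, hl⟩ := hX.scalar_of_fixMod (A := Φ (mat Q g *ᵥ ten u₀ y)) fun γ hγ _ w k hw hk => by
      obtain ⟨X, hXM, hXn, hXv⟩ := hroot hγ hw hk
      obtain ⟨S, hS'⟩ := himg X hXM hXn
      have hgS : ∀ v, mat Q (D X) *ᵥ (mat Q g *ᵥ v) = mat Q g *ᵥ (mat Q (hS.kL S) *ᵥ v) := fun v => by
        rw [← hS.mul_ten, ← hS.mul_ten, ← hS', show g * (g⁻¹ * D X * g) = D X * g by group]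
      have hSu : (S.1 : Matrix (Fin 3) (Fin 3) F) *ᵥ u₀ = u₀ := by
        have h1 : mat Q (hS.kL S) *ᵥ (mat Q g⁻¹ *ᵥ ι) = mat Q g⁻¹ *ᵥ ι := mulVec_injective g (by
          show mat Q g *ᵥ _ = mat Q g *ᵥ _
          rw [← hgS, mulVec_cancel', hιfix])
        rw [hu₀, ← hevL, h1]
      refine ⟨0, fun x => ?_⟩
      rw [zero_smul, sub_eq_zero, ← hXv, ← hXv, ← hΦD, hgS, hS.kL_ten, hSu]
    refine ⟨l, hΦinj (LinearMap.ext fun u => ?_)⟩
    rw [hl, map_smul, hι, LinearMap.smul_apply, LinearMap.id_apply]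
  obtain ⟨l₀, hl₀⟩ := hline (Pi.single 0 1)
  obtain ⟨l₁, hl₁⟩ := hline (Pi.single 1 1)
  have h1 : mat Q g *ᵥ ten u₀ (l₁ • Pi.single 0 1 - l₀ • Pi.single 1 1) = 0 := by
    rw [TensorSlice.ten_sub_right, ten_smul_right, ten_smul_right, mulVec_sub, mulVec_smul, mulVec_smul, hl₀,
      hl₁, smul_smul, smul_smul, mul_comm, sub_self]
  rw [← mulVec_zero (mat Q g)] at h1
  rcases ten_eq_zero.1 (mulVec_injective g h1) with h2 | h2
  · exact hw₀ h2
  · have h3 := congrFun h2 0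
    simp at h3
    have h4 : ten u₀ (Pi.single (0 : Fin 3) (1 : F)) = 0 := mulVec_injective g (by
      show mat Q g *ᵥ _ = mat Q g *ᵥ _
      rw [mulVec_zero, hl₀]
      have h5 := congrFun h2 1
      simp at h5
      rw [h5, zero_smul])
    rcases ten_eq_zero.1 h4 with h5 | h5
    · exact hw₀ h5
    · simpa using congrFun h5 0

end Over

end CfsgLib.TensorSquareThree
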